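import Groth.Agent.ComplTorsLib.LocDiv

/-!
# Torsion subcomplexes of acyclic complexes of locally divisible modules are acyclic
-/

set_option autoImplicit false
set_option linter.style.haveILetI false
set_option linter.unusedVariables false
set_option backward.isDefEq.respectTransparency false
set_option backward.isDefEq.respectTransparency.types false
set_option maxHeartbeats 2000000

universe u

open CategoryTheory CategoryTheory.Limits AlgebraicGeometry TopologicalSpace Opposite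

noncomputable section

namespace Groth.Agent.ComplTors

open Groth.Agent.FCompl
open Groth.Agent.TorsInj (Kill rs rs_rs rsO_comp dd dd_rs dd_smul dd_dd dd_sub)

variable {X : Scheme.{u}} {𝓘 : X.IdealSheafData} {hX : (FSch.completionAlong X 𝓘).IsFormal}
  [IsLocallyNoetherian X] {K : CochainComplex (FSch.ModF (FSch.completionAlong X 𝓘) hX) ℤ}

/-- Killed cycles are locally boundaries of killed sections. -/
theorem exists_killed_boundary (hK : K.Acyclic) (W : X.affineOpens) (hdiv : ∀ i, LocDiv hX W (K.X i))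
    (T : Finset Γ(X, W.1)) :
    ∀ (i j l : ℤ), i + 1 = j → j + 1 = l → ∀ (Z : ((FSch.completionAlong X 𝓘).X 0).Opens)
      (hZ : Z ≤ pre X 𝓘 W.1), IsAffineOpen Z → ∀ z : (K.X j).val.obj (op Z), dd K j l z = 0 →
      Kill (shT hX W T) hZ z → ∀ x ∈ Z,
      ∃ (Z' : ((FSch.completionAlong X 𝓘).X 0).Opens) (hZ' : Z' ≤ Z), IsAffineOpen Z' ∧ x ∈ Z' ∧
        ∃ u : (K.X i).val.obj (op Z'), Kill (shT hX W T) (hZ'.trans hZ) u ∧ dd K i j u = rs (K.X j) hZ' z := by
  classical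
  induction T using Finset.induction with
  | empty =>
    intro i j l hij hjl Z hZ hZa z hz _ x hx
    have hex : (K.sc' i j l).Exact := by
      rw [← K.exactAt_iff' i j l ((ComplexShape.up ℤ).prev_eq' hij) ((ComplexShape.up ℤ).next_eq' hjl)]
      exact hK j
    obtain ⟨Z₁, l₁, hxZ₁, u, hu⟩ := FPLocal.Locally.near (FPLocal.locally_preimage_of_exact (K.sc' i j l) hex z hz) hx
    obtain ⟨Z', hZ'a, hxZ', hZ'Z₁⟩ := exists_affine_le (𝔛 := FSch.completionAlong X 𝓘) hxZ₁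
    refine ⟨Z', hZ'Z₁.trans (leOfHom l₁), hZ'a, hxZ', rs (K.X i) hZ'Z₁ u,
      (kill_shT hX W _).2 ⟨0, fun a ha => absurd ha (Finset.notMem_empty a)⟩, ?_⟩
    rw [dd_rs]
    refine (congrArg (rs (K.X j) hZ'Z₁) hu).trans ?_
    exact rs_rs hZ'Z₁ (leOfHom l₁) z
  | insert f T _ ih =>
    intro i j l hij hjl Z hZ hZa z hz hzk x hx
    obtain ⟨e, he⟩ := (kill_shT hX W hZ).1 hzk
    have hzT : Kill (shT hX W T) hZ z :=
      (kill_shT hX W hZ).2 ⟨e, fun a ha => he a (Finset.mem_insert_of_mem ha)⟩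
    obtain ⟨Z₁, hZ₁, hZ₁a, hx₁, u, hu, hdu⟩ := ih i j l hij hjl Z hZ hZa z hz hzT x hx
    let r₁ := rsO (FSch.completionAlong X 𝓘) hX (hZ₁.trans hZ) (sh X 𝓘 hX W.1 f)
    obtain ⟨Z₂, hZ₂, hZ₂a, hx₂, w, hw, hdw⟩ := ih (i - 1) i j (sub_add_cancel i 1) hij Z₁ (hZ₁.trans hZ) hZ₁a
      (r₁ ^ e • u) (by
        rw [dd_smul, hdu]
        have h1 := congrArg (rs (K.X j) hZ₁) (he f (Finset.mem_insert_self f T))
        rw [map_zero, mres_smul', map_pow, rsO_comp] at h1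
        exact h1) (hu.smul _) x hx₁
    obtain ⟨Z', hZ', hZ'a, hx', n, t, ht, htw⟩ := hdiv (i - 1) T f e Z₂ ((hZ₂.trans hZ₁).trans hZ) hZ₂a w hw x hx₂
    let r := rsO (FSch.completionAlong X 𝓘) hX (((hZ'.trans hZ₂).trans hZ₁).trans hZ) (sh X 𝓘 hX W.1 f)
    have hu' : Kill (shT hX W T) (((hZ'.trans hZ₂).trans hZ₁).trans hZ)
        (rs (K.X i) (hZ'.trans hZ₂) u - dd K (i - 1) i t) := (hu.res (hZ'.trans hZ₂)).sub (ht.hom (K.d (i - 1) i))
    have hf : r ^ (e + n) • (rs (K.X i) (hZ'.trans hZ₂) u - dd K (i - 1) i t) = 0 := by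
      rw [smul_sub, ← dd_smul]
      refine sub_eq_zero.2 ?_
      refine Eq.trans ?_ (congrArg (dd K (i - 1) i) htw).symm
      rw [dd_smul, dd_rs, hdw, mres_smul' hZ₂, mres_smul' hZ', map_pow, map_pow, rsO_comp, rsO_comp, rs_rs]
      rw [← mul_smul, ← pow_add, add_comm n e]
    obtain ⟨e', he'⟩ := (kill_shT hX W _).1 hu'
    refine ⟨Z', (hZ'.trans hZ₂).trans hZ₁, hZ'a, hx', rs (K.X i) (hZ'.trans hZ₂) u - dd K (i - 1) i t,
      (kill_shT hX W _).2 ⟨max e' (e + n), fun a ha => ?_⟩, ?_⟩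
    · rcases Finset.mem_insert.1 ha with rfl | ha
      · exact TorsInj.pow_smul_eq_zero (le_max_right _ _) hf
      · exact TorsInj.pow_smul_eq_zero (le_max_left _ _) (he' a ha)
    · rw [dd_sub, dd_dd, sub_zero, dd_rs, hdu, rs_rs]

/-- The torsion subcomplex of an acyclic complex of locally divisible modules is acyclic. -/
theorem acyclic_gamma (hK : K.Acyclic) (hdiv : ∀ (W : X.affineOpens) i, LocDiv hX W (K.X i)) :
    (((FTors.gammaT (FSch.completionAlong X 𝓘) hX).mapHomologicalComplex (ComplexShape.up ℤ)).obj K).Acyclic := by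
  classical
  intro j
  rw [HomologicalComplex.exactAt_iff' _ (j - 1) j (j + 1)
    ((ComplexShape.up ℤ).prev_eq' (sub_add_cancel j 1)) ((ComplexShape.up ℤ).next_eq' rfl)]
  refine TorsInj.exact_of_locally _ fun V c hc => ?_
  have hL := isLocNoethFormal (X := X) (𝓘 := 𝓘)
  let z : (K.X j).val.obj (op V) := c.1
  have hz : dd K j (j + 1) z = 0 := congrArg Subtype.val hc
  refine FPLocal.locally_of_near (fun A B k l hl => ?_) fun x hx => ?_
  · obtain ⟨t, ht⟩ := hl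
    refine ⟨FPLocal.mres _ k.op t, ?_⟩
    rw [FPLocal.app_mres, ht, ← FPLocal.mres_comp']
  obtain ⟨Z₀, l₀, hxZ₀, n, hn⟩ := FPLocal.Locally.near ((isTorsSect_iff z).1 c.2) hx
  obtain ⟨W, hW, hxW, hWZ₀⟩ := exists_affine_pre (X := X) (𝓘 := 𝓘) hxZ₀ (W₀ := ⊤) trivial
  haveI : IsNoetherianRing Γ(X, W.1) := IsLocallyNoetherian.component_noetherian W
  obtain ⟨T, hT⟩ : (𝓘.ideal W).FG := IsNoetherian.noetherian _
  have hUa := isAffineOpen_pre (𝓘 := 𝓘) W
  have hspan : Ideal.span (↑(shT hX W T) : Set (OR (FSch.completionAlong X 𝓘) hX (pre X 𝓘 W.1))) =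
      II (FSch.completionAlong X 𝓘) hX (pre X 𝓘 W.1) := by
    rw [shT, Finset.coe_image, ← Ideal.map_span, II_eq_map]
    exact congrArg (Ideal.map _) hT
  have hTm : ∀ a ∈ shT hX W T, a ∈ II (FSch.completionAlong X 𝓘) hX (pre X 𝓘 W.1) := fun a ha => by
    rw [← hspan]; exact Ideal.subset_span ha
  have hV : pre X 𝓘 W.1 ≤ V := hWZ₀.trans (leOfHom l₀)
  have hk : KB (K.X j) n (rs (K.X j) hV z) :=
    (congrArg (KB (K.X j) n) (FPLocal.mres_comp (M := K.X j) l₀.op (homOfLE hWZ₀).op z)).mpr (hn.res (homOfLE hWZ₀))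
  obtain ⟨Z', hZ', hZ'a, hxZ', u, hu, hdu⟩ := exists_killed_boundary hK W (hdiv W) T (j - 1) j (j + 1)
    (sub_add_cancel j 1) rfl (pre X 𝓘 W.1) le_rfl hUa (rs (K.X j) hV z)
    (by rw [dd_rs, hz, map_zero]) (TorsInj.kill_of_kb hL hUa hTm hk) x hxW
  obtain ⟨n', hn'⟩ := TorsInj.kb_of_kill hL hUa hZ'a hspan hu
  refine ⟨Z', homOfLE (hZ'.trans hV), hxZ', ⟨u, FTors.IsTorsSect.of_killedBy (n := n') hn'⟩, Subtype.ext ?_⟩
  exact hdu.trans (rs_rs hZ' hV z)

end Groth.Agent.ComplTors
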