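import Mathlib.Algebra.Homology.DerivedCategory.ExactFunctor
import Mathlib.Algebra.Homology.DerivedCategory.KInjective
import Mathlib.Algebra.Homology.DerivedCategory.HomologySequence
import Mathlib.CategoryTheory.Localization.Adjunction
import Mathlib.CategoryTheory.Adjunction.Limits

/-!
# The adjunction of derived categories of an exact adjoint pair
-/

set_option autoImplicit false
set_option linter.style.haveILetI false

universe w w' v v' u u'

open CategoryTheory CategoryTheory.Limits

noncomputable section

namespace Groth.Agent.ComplTors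

variable {A : Type u} [Category.{v} A] [Abelian A] {B : Type u'} [Category.{v'} B] [Abelian B]
  {F : A ⥤ B} {G : B ⥤ A} (adj : F ⊣ G) [F.Additive] [G.Additive]

/-- An adjunction on complexes. -/
def cxAdj : F.mapHomologicalComplex (ComplexShape.up ℤ) ⊣ G.mapHomologicalComplex (ComplexShape.up ℤ) :=
  Adjunction.mkOfUnitCounit
    { unit :=
        { app := fun X => { f := fun i => adj.unit.app (X.X i)
                            comm' := fun i j _ => (adj.unit.naturality (X.d i j)).symm }
          naturality := fun X Y f => by ext i; exact adj.unit.naturality (f.f i) }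
      counit :=
        { app := fun X => { f := fun i => adj.counit.app (X.X i)
                            comm' := fun i j _ => (adj.counit.naturality (X.d i j)).symm }
          naturality := fun X Y f => by ext i; exact adj.counit.naturality (f.f i) }
      left_triangle := by
        ext X i
        simp only [NatTrans.comp_app, Functor.whiskerRight_app, Functor.whiskerLeft_app,
          Functor.associator_hom_app, HomologicalComplex.comp_f, Category.id_comp]
        exact adj.left_triangle_components (X.X i)
      right_triangle := by
        ext X i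
        simp only [NatTrans.comp_app, Functor.whiskerRight_app, Functor.whiskerLeft_app,
          Functor.associator_inv_app, HomologicalComplex.comp_f, Category.id_comp]
        exact adj.right_triangle_components (X.X i) }

lemma cxAdj_unit_f (K : CochainComplex A ℤ) (i : ℤ) : ((cxAdj adj).unit.app K).f i = adj.unit.app (K.X i) := rfl

lemma cxAdj_counit_f (K : CochainComplex B ℤ) (i : ℤ) : ((cxAdj adj).counit.app K).f i = adj.counit.app (K.X i) := rfl

variable [PreservesFiniteLimits F] [PreservesFiniteColimits F] [PreservesFiniteLimits G] [PreservesFiniteColimits G]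

/-- Homology of the levelwise image of a complex under an exact functor. -/
def homMapIso (K : CochainComplex A ℤ) (i : ℤ) :
    ((F.mapHomologicalComplex (ComplexShape.up ℤ)).obj K).homology i ≅ F.obj (K.homology i) :=
  (K.sc i).mapHomologyIso F

lemma quasiIso_of_app {A : Type u} [Category.{v} A] [Abelian A] {H K : A ⥤ A} [H.Additive] [K.Additive] [PreservesFiniteLimits H]
    [PreservesFiniteColimits H] [PreservesFiniteLimits K] [PreservesFiniteColimits K] (τ : H ⟶ K)
    (L : CochainComplex A ℤ)
    (φ : (H.mapHomologicalComplex (ComplexShape.up ℤ)).obj L ⟶ (K.mapHomologicalComplex (ComplexShape.up ℤ)).obj L)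
    (hφ : ∀ i, φ.f i = τ.app (L.X i)) (i : ℤ) [IsIso (τ.app (L.homology i))] : QuasiIsoAt φ i := by
  have e : φ = (NatTrans.mapHomologicalComplex τ (ComplexShape.up ℤ)).app L := by
    ext j; exact hφ j
  subst e
  rw [quasiIsoAt_iff]
  rw [ShortComplex.quasiIso_iff]
  haveI hτ : IsIso (τ.app (L.sc i).homology) := ‹_›
  rw [NatTrans.app_homology τ (L.sc i)] at hτ
  have h1 : IsIso (ShortComplex.homologyMap ((L.sc i).mapNatTrans τ)) := by
    haveI := hτ
    haveI : IsIso (ShortComplex.homologyMap ((L.sc i).mapNatTrans τ) ≫ ((L.sc i).mapHomologyIso K).hom) :=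
      IsIso.of_isIso_comp_left ((L.sc i).mapHomologyIso H).inv _
    exact IsIso.of_isIso_comp_right _ ((L.sc i).mapHomologyIso K).hom
  exact h1

variable [HasDerivedCategory.{w} A] [HasDerivedCategory.{w'} B]

/-- The adjunction on derived categories. -/
def derivedAdj : F.mapDerivedCategory ⊣ G.mapDerivedCategory :=
  letI : CatCommSq (F.mapHomologicalComplex (ComplexShape.up ℤ)) DerivedCategory.Q DerivedCategory.Q
      F.mapDerivedCategory := ⟨F.mapDerivedCategoryFactors.symm⟩
  letI : CatCommSq (G.mapHomologicalComplex (ComplexShape.up ℤ)) DerivedCategory.Q DerivedCategory.Q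
      G.mapDerivedCategory := ⟨G.mapDerivedCategoryFactors.symm⟩
  (cxAdj adj).localization DerivedCategory.Q (HomologicalComplex.quasiIso A (ComplexShape.up ℤ))
    DerivedCategory.Q (HomologicalComplex.quasiIso B (ComplexShape.up ℤ)) F.mapDerivedCategory G.mapDerivedCategory

lemma derivedAdj_unit_app (K : CochainComplex A ℤ) :
    (derivedAdj adj).unit.app (DerivedCategory.Q.obj K) =
      DerivedCategory.Q.map ((cxAdj adj).unit.app K) ≫
        G.mapDerivedCategoryFactors.inv.app ((F.mapHomologicalComplex (ComplexShape.up ℤ)).obj K) ≫
          G.mapDerivedCategory.map (F.mapDerivedCategoryFactors.inv.app K) := by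
  letI : CatCommSq (F.mapHomologicalComplex (ComplexShape.up ℤ)) DerivedCategory.Q DerivedCategory.Q
      F.mapDerivedCategory := ⟨F.mapDerivedCategoryFactors.symm⟩
  letI : CatCommSq (G.mapHomologicalComplex (ComplexShape.up ℤ)) DerivedCategory.Q DerivedCategory.Q
      G.mapDerivedCategory := ⟨G.mapDerivedCategoryFactors.symm⟩
  delta derivedAdj
  exact Adjunction.localization_unit_app _ _ _ _ _ _ _ K

lemma derivedAdj_counit_app (K : CochainComplex B ℤ) :
    (derivedAdj adj).counit.app (DerivedCategory.Q.obj K) =
      F.mapDerivedCategory.map (G.mapDerivedCategoryFactors.hom.app K) ≫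
        F.mapDerivedCategoryFactors.hom.app ((G.mapHomologicalComplex (ComplexShape.up ℤ)).obj K) ≫
          DerivedCategory.Q.map ((cxAdj adj).counit.app K) := by
  letI : CatCommSq (F.mapHomologicalComplex (ComplexShape.up ℤ)) DerivedCategory.Q DerivedCategory.Q
      F.mapDerivedCategory := ⟨F.mapDerivedCategoryFactors.symm⟩
  letI : CatCommSq (G.mapHomologicalComplex (ComplexShape.up ℤ)) DerivedCategory.Q DerivedCategory.Q
      G.mapDerivedCategory := ⟨G.mapDerivedCategoryFactors.symm⟩
  delta derivedAdj
  exact Adjunction.localization_counit_app _ _ _ _ _ _ _ K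

/-- Homology of the image in the derived category. -/
theorem nonempty_homology_map (X : DerivedCategory A) (i : ℤ) :
    Nonempty ((DerivedCategory.homologyFunctor B i).obj (F.mapDerivedCategory.obj X) ≅
      F.obj ((DerivedCategory.homologyFunctor A i).obj X)) := by
  let K := DerivedCategory.Q.objPreimage X
  let e := DerivedCategory.Q.objObjPreimageIso X
  exact ⟨(DerivedCategory.homologyFunctor B i).mapIso
      (F.mapDerivedCategory.mapIso e.symm ≪≫ F.mapDerivedCategoryFactors.app K) ≪≫
    (DerivedCategory.homologyFunctorFactors B i).app _ ≪≫ homMapIso (F := F) K i ≪≫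
    F.mapIso ((DerivedCategory.homologyFunctorFactors A i).symm.app K ≪≫
      (DerivedCategory.homologyFunctor A i).mapIso e)⟩

include adj in
/-- The unit is invertible on objects whose cohomology has invertible unit. -/
theorem isIso_derived_unit (X : DerivedCategory A)
    (h : ∀ i, IsIso (adj.unit.app ((DerivedCategory.homologyFunctor A i).obj X))) :
    IsIso ((derivedAdj adj).unit.app X) := by
  let K := DerivedCategory.Q.objPreimage X
  let e := DerivedCategory.Q.objObjPreimageIso X
  rw [← NatTrans.isIso_app_iff_of_iso (derivedAdj adj).unit e, derivedAdj_unit_app]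
  haveI : IsIso (DerivedCategory.Q.map ((cxAdj adj).unit.app K)) := by
    rw [DerivedCategory.isIso_Q_map_iff_quasiIso]
    refine ⟨fun i => ?_⟩
    haveI : IsIso (adj.unit.app (K.homology i)) :=
      (NatTrans.isIso_app_iff_of_iso adj.unit ((DerivedCategory.homologyFunctorFactors A i).symm.app K ≪≫
        (DerivedCategory.homologyFunctor A i).mapIso e)).2 (h i)
    let φ : ((𝟭 A).mapHomologicalComplex (ComplexShape.up ℤ)).obj K ⟶
        ((F ⋙ G).mapHomologicalComplex (ComplexShape.up ℤ)).obj K :=
      (NatTrans.mapHomologicalComplex adj.unit (ComplexShape.up ℤ)).app K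
    haveI := comp_preservesFiniteLimits F G
    haveI := comp_preservesFiniteColimits F G
    haveI := quasiIso_of_app adj.unit K φ (fun i => rfl) i
    let j : K ≅ ((𝟭 A).mapHomologicalComplex (ComplexShape.up ℤ)).obj K :=
      HomologicalComplex.Hom.isoOfComponents (fun i => Iso.refl _)
        (fun i j _ => (Category.id_comp _).trans (Category.comp_id _).symm)
    let j' : ((F ⋙ G).mapHomologicalComplex (ComplexShape.up ℤ)).obj K ≅
        (G.mapHomologicalComplex (ComplexShape.up ℤ)).obj ((F.mapHomologicalComplex (ComplexShape.up ℤ)).obj K) :=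
      HomologicalComplex.Hom.isoOfComponents (fun i => Iso.refl _)
        (fun i j _ => (Category.id_comp _).trans (Category.comp_id _).symm)
    have e' : (cxAdj adj).unit.app K = j.hom ≫ φ ≫ j'.hom := by
      ext n
      exact ((Category.id_comp _).trans (Category.comp_id _)).symm
    rw [e']
    infer_instance
  infer_instance

include adj in
/-- The counit is invertible on objects whose cohomology has invertible counit. -/
theorem isIso_derived_counit (Y : DerivedCategory B)
    (h : ∀ i, IsIso (adj.counit.app ((DerivedCategory.homologyFunctor B i).obj Y))) :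
    IsIso ((derivedAdj adj).counit.app Y) := by
  let K := DerivedCategory.Q.objPreimage Y
  let e := DerivedCategory.Q.objObjPreimageIso Y
  rw [← NatTrans.isIso_app_iff_of_iso (derivedAdj adj).counit e, derivedAdj_counit_app]
  haveI : IsIso (DerivedCategory.Q.map ((cxAdj adj).counit.app K)) := by
    rw [DerivedCategory.isIso_Q_map_iff_quasiIso]
    refine ⟨fun i => ?_⟩
    haveI : IsIso (adj.counit.app (K.homology i)) :=
      (NatTrans.isIso_app_iff_of_iso adj.counit ((DerivedCategory.homologyFunctorFactors B i).symm.app K ≪≫
        (DerivedCategory.homologyFunctor B i).mapIso e)).2 (h i)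
    let φ : ((G ⋙ F).mapHomologicalComplex (ComplexShape.up ℤ)).obj K ⟶
        ((𝟭 B).mapHomologicalComplex (ComplexShape.up ℤ)).obj K :=
      (NatTrans.mapHomologicalComplex adj.counit (ComplexShape.up ℤ)).app K
    haveI := comp_preservesFiniteLimits G F
    haveI := comp_preservesFiniteColimits G F
    haveI := quasiIso_of_app adj.counit K φ (fun i => rfl) i
    let j : ((𝟭 B).mapHomologicalComplex (ComplexShape.up ℤ)).obj K ≅ K :=
      HomologicalComplex.Hom.isoOfComponents (fun i => Iso.refl _)
        (fun i j _ => (Category.id_comp _).trans (Category.comp_id _).symm)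
    let j' : (F.mapHomologicalComplex (ComplexShape.up ℤ)).obj ((G.mapHomologicalComplex (ComplexShape.up ℤ)).obj K) ≅
        ((G ⋙ F).mapHomologicalComplex (ComplexShape.up ℤ)).obj K :=
      HomologicalComplex.Hom.isoOfComponents (fun i => Iso.refl _)
        (fun i j _ => (Category.id_comp _).trans (Category.comp_id _).symm)
    have e' : (cxAdj adj).counit.app K = j'.hom ≫ φ ≫ j.hom := by
      ext n
      exact ((Category.id_comp _).trans (Category.comp_id _)).symm
    rw [e']
    infer_instance
  infer_instance

end Groth.Agent.ComplTors
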