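import Groth.Agent.ComplTorsLib.AdjDerived
import Groth.Agent.KInj.Restrict
import Mathlib.CategoryTheory.Functor.Derived.PointwiseRightDerived

/-!
# Consequences of the derived adjunction
-/

set_option autoImplicit false
set_option linter.style.haveILetI false

universe w w' v v' u u'

open CategoryTheory CategoryTheory.Limits

noncomputable section

namespace Groth.Agent.ComplTors

variable {A : Type u} [Category.{v} A] [Abelian A] {B : Type u'} [Category.{v'} B] [Abelian B]
  [HasDerivedCategory.{w} A] [HasDerivedCategory.{w'} B]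

/-- The total right derived functor of an exact functor is the induced functor. -/
theorem nonempty_totalRightDerived_iso (G : B ⥤ A) [G.Additive] [PreservesFiniteLimits G] [PreservesFiniteColimits G]
    [(G.mapHomotopyCategory (ComplexShape.up ℤ) ⋙ DerivedCategory.Qh).HasRightDerivedFunctor
      (HomotopyCategory.quasiIso B (ComplexShape.up ℤ))] :
    Nonempty ((G.mapHomotopyCategory (ComplexShape.up ℤ) ⋙ DerivedCategory.Qh).totalRightDerived DerivedCategory.Qh
      (HomotopyCategory.quasiIso B (ComplexShape.up ℤ)) ≅ G.mapDerivedCategory) := by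
  haveI : G.mapDerivedCategory.IsRightDerivedFunctor G.mapDerivedCategoryFactorsh.inv
      (HomotopyCategory.quasiIso B (ComplexShape.up ℤ)) :=
    Functor.isRightDerivedFunctor_of_inverts _ _ G.mapDerivedCategoryFactorsh
  exact ⟨Functor.rightDerivedUnique _ _
    ((G.mapHomotopyCategory (ComplexShape.up ℤ) ⋙ DerivedCategory.Qh).totalRightDerivedUnit DerivedCategory.Qh
      (HomotopyCategory.quasiIso B (ComplexShape.up ℤ))) G.mapDerivedCategoryFactorsh.inv
    (HomotopyCategory.quasiIso B (ComplexShape.up ℤ))⟩

/-- A functor isomorphic to a bijective-on-morphisms one is bijective on morphisms. -/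
theorem bijective_map_of_natIso {C D : Type*} [Category C] [Category D] {P Q : C ⥤ D} (e : P ≅ Q) {X Y : C}
    (h : Function.Bijective (Q.map : (X ⟶ Y) → _)) : Function.Bijective (P.map : (X ⟶ Y) → _) := by
  have e' : (P.map : (X ⟶ Y) → _) = (fun f => e.hom.app X ≫ f ≫ e.inv.app Y) ∘ Q.map := by
    funext f
    show P.map f = e.hom.app X ≫ Q.map f ≫ e.inv.app Y
    rw [e.inv.naturality, Iso.hom_inv_id_app_assoc]
  rw [e']
  refine Function.Bijective.comp ⟨fun f g hfg => ?_, fun f => ⟨e.inv.app X ≫ f ≫ e.hom.app Y, by simp⟩⟩ h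
  simpa [cancel_epi, cancel_mono] using hfg

/-- A left adjoint is bijective on morphisms into an object with invertible unit. -/
theorem bijective_map_left {C D : Type*} [Category C] [Category D] {L : C ⥤ D} {R : D ⥤ C} (a : L ⊣ R) (X Y : C)
    (h : Function.Bijective fun φ : X ⟶ Y => φ ≫ a.unit.app Y) : Function.Bijective (L.map : (X ⟶ Y) → _) := by
  have e : (L.map : (X ⟶ Y) → _) = (a.homEquiv X (L.obj Y)).symm ∘ fun φ => φ ≫ a.unit.app Y := by
    funext φ
    show L.map φ = (a.homEquiv X (L.obj Y)).symm (φ ≫ a.unit.app Y)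
    rw [← a.homEquiv_id Y, ← a.homEquiv_naturality_left, Equiv.symm_apply_apply, Category.comp_id]
  rw [e]
  exact (Equiv.bijective _).comp h

/-- A right adjoint is bijective on morphisms out of an object with invertible counit. -/
theorem bijective_map_right {C D : Type*} [Category C] [Category D] {L : C ⥤ D} {R : D ⥤ C} (a : L ⊣ R) (X Y : D)
    [IsIso (a.counit.app X)] : Function.Bijective (R.map : (X ⟶ Y) → _) := by
  have e : (R.map : (X ⟶ Y) → _) = (a.homEquiv (R.obj X) Y) ∘ fun φ => a.counit.app X ≫ φ := by
    funext φ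
    simp [Adjunction.homEquiv_unit]
  rw [e]
  exact (Equiv.bijective _).comp ⟨fun f g hfg => (cancel_epi _).1 hfg,
    fun g => ⟨inv (a.counit.app X) ≫ g, IsIso.hom_inv_id_assoc _ _⟩⟩

end Groth.Agent.ComplTors
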