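import Groth.Agent.FComplLib.QCKernel
import Groth.Agent.FComplLib.Torsion
import Groth.Agent.CompFlatLib.Scheme
import Groth.Agent.S3854
import Groth.Prelude.Def_FTors3

/-!
# Sections of the completion over preimages of affine opens
-/

set_option autoImplicit false
set_option linter.style.haveILetI false
set_option linter.unusedVariables false
set_option backward.isDefEq.respectTransparency false
set_option backward.isDefEq.respectTransparency.types false
set_option maxHeartbeats 1000000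

universe u

open CategoryTheory CategoryTheory.Limits AlgebraicGeometry TopologicalSpace Opposite

noncomputable section

namespace Groth.Agent.ComplTors

open Groth.Agent.FCompl

variable (X : Scheme.{u}) (𝓘 : X.IdealSheafData) (hX : (FSch.completionAlong X 𝓘).IsFormal)

/-- The map of spaces of the completion morphism. -/
abbrev ib : ((FSch.completionAlong X 𝓘).X 0).carrier ⟶ X.carrier := (FSch.completionToX X 𝓘 0).base

/-- The preimage of an open of the scheme. -/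
abbrev pre (W : X.Opens) : ((FSch.completionAlong X 𝓘).X 0).Opens := (Opens.map (ib X 𝓘)).obj W

/-- The completion morphism. -/
abbrev kap : ModSite.RMor ((FSch.completionAlong X 𝓘).Osh hX) X.sheaf :=
  FSch.toSchemeMor (FSch.completionAlong X 𝓘) hX (FSch.completionToX X 𝓘) (FSch.completionToX_comm X 𝓘)

/-- The structure map on sections. -/
def sh (W : X.Opens) : Γ(X, W) →+* OR (FSch.completionAlong X 𝓘) hX (pre X 𝓘 W) :=
  ((FSch.schSharp (FSch.completionAlong X 𝓘) hX (FSch.completionToX X 𝓘)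
    (FSch.completionToX_comm X 𝓘)).hom.app (op W)).hom

/-- The structure map to a level. -/
def qn (W : X.Opens) (n : ℕ) : Γ(X, W) →+* LR (FSch.completionAlong X 𝓘) hX (pre X 𝓘 W) n :=
  ((FSch.completionToX X 𝓘 n).appLE W ((FSch.completionAlong X 𝓘).lvU hX n (pre X 𝓘 W))
    (FSch.lvU_p (FSch.completionAlong X 𝓘) hX (FSch.completionToX X 𝓘) (FSch.completionToX_comm X 𝓘) n W).ge).hom

variable {X 𝓘 hX}

lemma pr_sh (W : X.Opens) (n : ℕ) (a : Γ(X, W)) :
    pr (FSch.completionAlong X 𝓘) hX (pre X 𝓘 W) n (sh X 𝓘 hX W a) = qn X 𝓘 hX W n a :=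
  congr($(FSch.schSharp_proj (FSch.completionAlong X 𝓘) hX (FSch.completionToX X 𝓘)
    (FSch.completionToX_comm X 𝓘) n).hom.app (op W) a)

lemma sh_res {W W' : X.Opens} (hW : W' ≤ W) (a : Γ(X, W)) :
    sh X 𝓘 hX W' ((X.presheaf.map (homOfLE hW).op).hom a) =
      rsO (FSch.completionAlong X 𝓘) hX (Scheme.Hom.preimage_mono (FSch.completionToX X 𝓘 0) hW)
        (sh X 𝓘 hX W a) :=
  congr($((FSch.schSharp (FSch.completionAlong X 𝓘) hX (FSch.completionToX X 𝓘)
    (FSch.completionToX_comm X 𝓘)).hom.naturality (homOfLE hW).op) a)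

instance (n : ℕ) : IsClosedImmersion (FSch.completionToX X 𝓘 n) :=
  inferInstanceAs (IsClosedImmersion (𝓘 ^ (n + 1)).subschemeι)

lemma isAffineOpen_pre (W : X.affineOpens) : IsAffineOpen (pre X 𝓘 W.1) :=
  W.2.preimage (FSch.completionToX X 𝓘 0)

lemma qn_surjective (W : X.affineOpens) (n : ℕ) : Function.Surjective (qn X 𝓘 hX W.1 n) := by
  have heq := FSch.lvU_p (FSch.completionAlong X 𝓘) hX (FSch.completionToX X 𝓘) (FSch.completionToX_comm X 𝓘) n W.1
  intro b
  obtain ⟨c, hc⟩ := (ConcreteCategory.bijective_of_isIso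
    (((FSch.completionAlong X 𝓘).X n).presheaf.map (eqToHom heq.symm).op)).2 b
  obtain ⟨a, ha⟩ := (FSch.completionToX X 𝓘 n).app_surjective W.1 W.2 c
  exact ⟨a, (congrArg _ ha).trans hc⟩

lemma ker_qn (W : X.affineOpens) (n : ℕ) : RingHom.ker (qn X 𝓘 hX W.1 n) = 𝓘.ideal W ^ (n + 1) := by
  rw [qn, ker_appLE _ _ _ _
    (FSch.lvU_p (FSch.completionAlong X 𝓘) hX (FSch.completionToX X 𝓘) (FSch.completionToX_comm X 𝓘) n W.1),
    ← Scheme.Hom.ker_apply (FSch.completionToX X 𝓘 n) W, Scheme.IdealSheafData.ker_subschemeι,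
    Scheme.IdealSheafData.ideal_pow, Pi.pow_apply]

/-- Opens of the completion are preimages. -/
lemma exists_pre_eq (V : ((FSch.completionAlong X 𝓘).X 0).Opens) : ∃ W : X.Opens, pre X 𝓘 W = V := by
  obtain ⟨W', hW', hWV⟩ :=
    (FSch.completionToX X 𝓘 0).isClosedEmbedding.isInducing.isOpen_iff.1 V.isOpen
  exact ⟨⟨W', hW'⟩, TopologicalSpace.Opens.ext hWV⟩

/-- Preimages of affine opens form a basis. -/
lemma exists_affine_pre {V : ((FSch.completionAlong X 𝓘).X 0).Opens} {x : (FSch.completionAlong X 𝓘).X 0}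
    (hx : x ∈ V) {W₀ : X.Opens} (hW₀ : ib X 𝓘 x ∈ W₀) :
    ∃ W : X.affineOpens, W.1 ≤ W₀ ∧ ib X 𝓘 x ∈ W.1 ∧ pre X 𝓘 W.1 ≤ V := by
  obtain ⟨W', rfl⟩ := exists_pre_eq V
  obtain ⟨U, hU, hxU, hUW⟩ := exists_isAffineOpen_mem_and_subset (X := X) (x := ib X 𝓘 x) (U := W₀ ⊓ W')
    ⟨hW₀, hx⟩
  exact ⟨⟨U, hU⟩, fun z hz => (hUW hz).1, hxU, fun z hz => (hUW hz).2⟩

variable [IsLocallyNoetherian X]

lemma isLocNoethFormal : (FSch.completionAlong X 𝓘).IsLocNoethFormal := S3854.result X 𝓘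

/-- Locally scalars of the completion are congruent to scalars of the scheme. -/
lemma exists_sh_congr (W : X.affineOpens) (n : ℕ) (b : OR (FSch.completionAlong X 𝓘) hX (pre X 𝓘 W.1)) :
    ∃ a : Γ(X, W.1), pr (FSch.completionAlong X 𝓘) hX (pre X 𝓘 W.1) n (b - sh X 𝓘 hX W.1 a) = 0 := by
  obtain ⟨a, ha⟩ := qn_surjective W n (pr (FSch.completionAlong X 𝓘) hX (pre X 𝓘 W.1) n b)
  exact ⟨a, by rw [map_sub, pr_sh, ha, sub_self]⟩

lemma II_eq_map (W : X.affineOpens) :
    II (FSch.completionAlong X 𝓘) hX (pre X 𝓘 W.1) = (𝓘.ideal W).map (sh X 𝓘 hX W.1) := by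
  have hL := isLocNoethFormal (X := X) (𝓘 := 𝓘)
  have hU := isAffineOpen_pre (𝓘 := 𝓘) W
  have h0 : (𝓘.ideal W).map (sh X 𝓘 hX W.1) ≤ II (FSch.completionAlong X 𝓘) hX (pre X 𝓘 W.1) := by
    rw [Ideal.map_le_iff_le_comap]
    intro a ha
    rw [Ideal.mem_comap, II, RingHom.mem_ker, pr_sh, ← RingHom.mem_ker, ker_qn, zero_add, pow_one]
    exact ha
  refine le_antisymm ?_ h0
  haveI := noetherian (h := hX) hL hU
  refine Submodule.le_of_le_smul_of_le_jacobson_bot (IsNoetherian.noetherian _) (II_le_jacobson (h := hX) hL hU)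
    fun b hb => ?_
  obtain ⟨a, ha⟩ := exists_sh_congr W 1 b
  have ha0 : a ∈ 𝓘.ideal W := by
    rw [← pow_one (𝓘.ideal W), show (1 : ℕ) = 0 + 1 from rfl, ← ker_qn (hX := hX) W 0, RingHom.mem_ker, ← pr_sh]
    have h1 := congrArg (tr (FSch.completionAlong X 𝓘) hX (pre X 𝓘 W.1) 0) ha
    rw [tr_pr, map_zero, map_sub, sub_eq_zero] at h1
    exact h1.symm.trans hb
  rw [← add_sub_cancel (sh X 𝓘 hX W.1 a) b, smul_eq_mul, ← pow_two,
    show (2 : ℕ) = 1 + 1 from rfl, ← ker_pr hL hU 1]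
  exact Submodule.add_mem_sup (Ideal.mem_map_of_mem _ ha0) ha

lemma ker_pr_eq_map (W : X.affineOpens) (n : ℕ) :
    RingHom.ker (pr (FSch.completionAlong X 𝓘) hX (pre X 𝓘 W.1) n) =
      (𝓘.ideal W ^ (n + 1)).map (sh X 𝓘 hX W.1) := by
  rw [ker_pr isLocNoethFormal (isAffineOpen_pre W), II_eq_map, Ideal.map_pow]

end Groth.Agent.ComplTors
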