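import Groth.Agent.ComplTorsLib.GenTors
import Groth.Agent.TorsInjLib.Idem

/-!
# The derived torsion functor of a family of ideals on a ringed site
-/

set_option autoImplicit false
set_option linter.style.haveILetI false
set_option linter.unusedVariables false
set_option backward.isDefEq.respectTransparency false
set_option backward.isDefEq.respectTransparency.types false
set_option maxHeartbeats 2000000

universe u

open CategoryTheory CategoryTheory.Limits Opposite
attribute [local instance] HasDerivedCategory.standard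

noncomputable section

namespace Groth.Agent.ComplTors

variable {C : Type u} [SmallCategory C] {J : GrothendieckTopology C} {O : Sheaf J CommRingCat.{u}}
  (I : FTors.IdealFam O)

/-- The homotopy class of a complex of modules. -/
abbrev hc (K : CochainComplex (ModSite.Mod O) ℤ) : HomotopyCategory (ModSite.Mod O) (ComplexShape.up ℤ) :=
  (HomotopyCategory.quotient (ModSite.Mod O) (ComplexShape.up ℤ)).obj K

theorem gen_hres (K : CochainComplex (ModSite.Mod O) ℤ) :
    ∃ (L : CochainComplex (ModSite.Mod O) ℤ) (f : K ⟶ L), L.IsKInjective ∧ QuasiIso f :=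
  haveI : IsGrothendieckAbelian.{u} (ModSite.Mod O) := S0484.result _ _
  KInj.hres_of_isGrothendieckAbelian (ModSite.Mod O) K

theorem gen_exists_model (E : DerivedCategory (ModSite.Mod O)) :
    ∃ (L : CochainComplex (ModSite.Mod O) ℤ), L.IsKInjective ∧ (∀ n, Injective (L.X n)) ∧
      Nonempty ((DerivedCategory.Qh (C := ModSite.Mod O)).obj (hc L) ≅ E) := by
  haveI : IsGrothendieckAbelian.{u} (ModSite.Mod O) := S0484.result _ _
  obtain ⟨L, φ, h1, h2, -, h3⟩ := KInj.exists_isKInjective_resolution
    ((DerivedCategory.Q (C := ModSite.Mod O)).objPreimage E)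
  haveI := h2
  exact ⟨L, h1, h3, ⟨(DerivedCategory.quotientCompQhIso _).app L ≪≫ (asIso (DerivedCategory.Q.map φ)).symm ≪≫
    DerivedCategory.Q.objObjPreimageIso E⟩⟩

/-- Cohomology of the class of a complex. -/
def genHmodIso (K : CochainComplex (ModSite.Mod O) ℤ) (i : ℤ) :
    SiteCmp.HMod (DerivedCategory.Qh.obj (hc K)) i ≅ K.homology i :=
  (DerivedCategory.homologyFunctor (ModSite.Mod O) i).mapIso ((DerivedCategory.quotientCompQhIso _).app K) ≪≫
    (DerivedCategory.homologyFunctorFactors (ModSite.Mod O) i).app K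

theorem gen_isDTors_of_iso {E F : DerivedCategory (ModSite.Mod O)} (e : E ≅ F) (hE : FTors.IsDTors I E) :
    FTors.IsDTors I F :=
  fun i => gen_isTors_of_iso I ((DerivedCategory.homologyFunctor (ModSite.Mod O) i).mapIso e) (hE i)

theorem gen_isDTors_of_isTors (K : CochainComplex (ModSite.Mod O) ℤ) (hK : ∀ i, FTors.IsTors I (K.X i)) :
    FTors.IsDTors I (DerivedCategory.Qh.obj (hc K)) :=
  fun i => gen_isTors_of_iso I (genHmodIso K i).symm (isTors_homology I K hK i)

theorem gen_gammaτ_app_eq (K : CochainComplex (ModSite.Mod O) ℤ) :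
    (FTors.gammaτ I).app (hc K) =
      DerivedCategory.Qh.map (((FTors.gamma O I).mapHomotopyCategoryFactors (ComplexShape.up ℤ)).hom.app K) ≫
        DerivedCategory.Qh.map ((HomotopyCategory.quotient _ _).map (genGammaCx I K)) := by
  rw [genGammaCx, Functor.map_comp, Functor.map_comp]
  show (FTors.gammaτ0 I).app K = _
  simp only [FTors.gammaτ0, NatTrans.comp_app, Functor.associator_inv_app, Functor.associator_hom_app,
    Functor.whiskerRight_app, Functor.leftUnitor_hom_app, Category.id_comp, Category.comp_id, Functor.comp_map,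
    Category.assoc]
  rfl

theorem gen_isIso_gammaτ_of_quasiIso (K : CochainComplex (ModSite.Mod O) ℤ) [QuasiIso (genGammaCx I K)] :
    IsIso ((FTors.gammaτ I).app (hc K)) := by
  haveI : IsIso (DerivedCategory.Qh.map ((HomotopyCategory.quotient _ _).map (genGammaCx I K))) :=
    (NatIso.isIso_map_iff (DerivedCategory.quotientCompQhIso (ModSite.Mod O)) (genGammaCx I K)).2 inferInstance
  rw [gen_gammaτ_app_eq]
  infer_instance

theorem gen_isIso_gammaτ_of_isTors (K : CochainComplex (ModSite.Mod O) ℤ) (hK : ∀ j, FTors.IsTors I (K.X j)) :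
    IsIso ((FTors.gammaτ I).app (hc K)) := by
  haveI : ∀ j, IsIso ((genGammaCx I K).f j) := fun j => by
    rw [genGammaCx_f]
    exact gen_isIso_gammaι I _ (hK j)
  haveI : IsIso (genGammaCx I K) := HomologicalComplex.Hom.isIso_of_components _
  exact gen_isIso_gammaτ_of_quasiIso I K

theorem gen_isIso_gammaKh_gammaCx (K : CochainComplex (ModSite.Mod O) ℤ) :
    IsIso ((FTors.gammaKh I).map ((HomotopyCategory.quotient _ _).map (genGammaCx I K))) := by
  haveI : ∀ j, IsIso ((((FTors.gamma O I).mapHomologicalComplex (ComplexShape.up ℤ)).map (genGammaCx I K)).f j) :=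
    fun j => by
      show IsIso ((FTors.gamma O I).map ((genGammaCx I K).f j))
      rw [genGammaCx_f]
      exact gen_isIso_gamma_map_ι I _
  haveI : IsIso (((FTors.gamma O I).mapHomologicalComplex (ComplexShape.up ℤ)).map (genGammaCx I K)) :=
    HomologicalComplex.Hom.isIso_of_components _
  exact (NatIso.isIso_map_iff (Functor.isoWhiskerRight
    ((FTors.gamma O I).mapHomotopyCategoryFactors (ComplexShape.up ℤ)) DerivedCategory.Qh) (genGammaCx I K)).2
      (inferInstanceAs (IsIso (DerivedCategory.Qh.map ((HomotopyCategory.quotient _ _).map _))))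

/-- The standing hypothesis: torsion subcomplexes of complexes of injectives with torsion cohomology. -/
def TorsAcyclic : Prop :=
  ∀ K : CochainComplex (ModSite.Mod O) ℤ, K.IsKInjective → (∀ i, Injective (K.X i)) →
    (∀ i, FTors.IsTors I (K.homology i)) → QuasiIso (genGammaCx I K)

variable [FTors.HasRgamma I]

/-- The unit of the derived torsion functor. -/
abbrev genUnitR : FTors.gammaKh I ⟶ DerivedCategory.Qh ⋙ FTors.Rgamma I :=
  (FTors.gammaKh I).totalRightDerivedUnit DerivedCategory.Qh
    (HomotopyCategory.quasiIso (ModSite.Mod O) (ComplexShape.up ℤ))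

theorem gen_isIso_unitR_app (K : CochainComplex (ModSite.Mod O) ℤ) [K.IsKInjective] :
    IsIso ((genUnitR I).app (hc K)) :=
  KInj.isIso_app_of_isKInjective gen_hres _ (FTors.Rgamma I) (genUnitR I) K

theorem gen_unitR_comp_ε (X : HomotopyCategory (ModSite.Mod O) (ComplexShape.up ℤ)) :
    (genUnitR I).app X ≫ (FTors.Rgammaε I).app (DerivedCategory.Qh.obj X) = (FTors.gammaτ I).app X := by
  have := (FTors.Rgamma I).rightDerived_fac_app (genUnitR I)
    (HomotopyCategory.quasiIso (ModSite.Mod O) (ComplexShape.up ℤ)) (𝟭 (DerivedCategory (ModSite.Mod O)))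
    (FTors.gammaτ I ≫ (Functor.rightUnitor _).inv) X
  refine this.trans ?_
  simp

theorem gen_isDTors_Rgamma (E : DerivedCategory (ModSite.Mod O)) : FTors.IsDTors I ((FTors.Rgamma I).obj E) := by
  obtain ⟨L, hL, hinj, ⟨e⟩⟩ := gen_exists_model E
  haveI := hL
  haveI := gen_isIso_unitR_app I L
  refine gen_isDTors_of_iso I (asIso ((genUnitR I).app (hc L)) ≪≫ (FTors.Rgamma I).mapIso e) ?_
  exact gen_isDTors_of_iso I
    (DerivedCategory.Qh.mapIso (((FTors.gamma O I).mapHomotopyCategoryFactors (ComplexShape.up ℤ)).app L)).symm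
    (gen_isDTors_of_isTors I _ fun i => gen_isTors_gamma I (L.X i))

theorem gen_isIso_ε_app (H : TorsAcyclic I) (E : DerivedCategory (ModSite.Mod O)) (hE : FTors.IsDTors I E) :
    IsIso ((FTors.Rgammaε I).app E) := by
  obtain ⟨L, hL, hinj, ⟨e⟩⟩ := gen_exists_model E
  haveI := hL
  haveI := gen_isIso_unitR_app I L
  haveI := H L hL hinj fun i => gen_isTors_of_iso I (genHmodIso L i) (gen_isDTors_of_iso I e.symm hE i)
  haveI := gen_isIso_gammaτ_of_quasiIso I L
  haveI : IsIso ((FTors.Rgammaε I).app (DerivedCategory.Qh.obj (hc L))) :=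
    IsIso.of_isIso_fac_left (gen_unitR_comp_ε I (hc L))
  exact (NatTrans.isIso_app_iff_of_iso (FTors.Rgammaε I) e).1 inferInstance

theorem gen_isIso_map_ε (H : TorsAcyclic I) (E : DerivedCategory (ModSite.Mod O)) :
    IsIso ((FTors.Rgamma I).map ((FTors.Rgammaε I).app E)) := by
  obtain ⟨K, hK, hinj, ⟨e⟩⟩ := gen_exists_model E
  haveI := hK
  haveI := gen_isIso_unitR_app I K
  let L := ((FTors.gamma O I).mapHomologicalComplex (ComplexShape.up ℤ)).obj K
  haveI : IsGrothendieckAbelian.{u} (ModSite.Mod O) := S0484.result _ _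
  obtain ⟨R, f, g', hR, hinjR, hfg, hf⟩ :=
    TorsInj.exists_model_factor_gen (A := ModSite.Mod O) L K ((HomotopyCategory.quotient _ _).map (genGammaCx I K))
  haveI := hR
  haveI := gen_isIso_unitR_app I R
  haveI := hf
  haveI := H R hR hinjR fun i => gen_isTors_of_iso I (genHmodIso R i)
    (gen_isDTors_of_iso I (asIso (DerivedCategory.Qh.map f))
      (gen_isDTors_of_isTors I L fun i => gen_isTors_gamma I (K.X i)) i)
  haveI := gen_isIso_gammaτ_of_quasiIso I R
  haveI := gen_isIso_gammaτ_of_isTors I L fun j => gen_isTors_gamma I (K.X j)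
  haveI := gen_isIso_gammaKh_gammaCx I K
  haveI := TorsInj.isIso_map_counit (genUnitR I) (FTors.gammaτ I)
    (FTors.Rgammaε I) (gen_unitR_comp_ε I) ((HomotopyCategory.quotient _ _).map (genGammaCx I K)) f g' hfg
    (DerivedCategory.Qh.map (((FTors.gamma O I).mapHomotopyCategoryFactors (ComplexShape.up ℤ)).hom.app K))
    (gen_gammaτ_app_eq I K)
  exact (NatTrans.isIso_app_iff_of_iso (Functor.whiskerRight (FTors.Rgammaε I) (FTors.Rgamma I)) e).1 this

/-- The universal property of the derived torsion functor. -/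
theorem gen_bijective_comp_ε (H : TorsAcyclic I) (E F : DerivedCategory (ModSite.Mod O))
    (hE : FTors.IsDTors I E) :
    Function.Bijective (fun φ : E ⟶ (FTors.Rgamma I).obj F => φ ≫ (FTors.Rgammaε I).app F) := by
  haveI := gen_isIso_ε_app I H E hE
  haveI := gen_isIso_map_ε I H F
  exact TorsInj.bijective_comp_counit (FTors.Rgammaε I) E F

end Groth.Agent.ComplTors
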