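import Groth.Agent.ComplTorsLib.Unit
import Groth.Agent.PullFlat.PullProps

/-!
# Direct images of quasi-coherent torsion modules are quasi-coherent
-/

set_option autoImplicit false
set_option linter.style.haveILetI false
set_option linter.unusedVariables false
set_option backward.isDefEq.respectTransparency false
set_option backward.isDefEq.respectTransparency.types false
set_option maxHeartbeats 2000000

universe u

open CategoryTheory CategoryTheory.Limits AlgebraicGeometry TopologicalSpace Opposite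

noncomputable section

namespace Groth.Agent.ComplTors

open Groth.Agent.FCompl

variable {𝔛 : FSch.Sys.{u}} {h : 𝔛.IsFormal}

/-- A torsion section over an affine open is killed by one open ideal. -/
theorem exists_kb {M : FSch.ModF 𝔛 h} (hM : IsT M) {U : (𝔛.X 0).Opens} (hU : IsAffineOpen U)
    (s : M.val.obj (op U)) : ∃ n, KB M n s := by
  classical
  have key : ∀ y : U, ∃ (V : (𝔛.X 0).Opens) (l : V ⟶ U) (n : ℕ), y.1 ∈ V ∧ KB M n (FPLocal.mres M l.op s) :=
    fun y => by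
      obtain ⟨V, l, hyV, n, hn⟩ := FPLocal.Locally.near ((isTorsSect_iff (M := M) s).1 (hM U s)) y.2
      exact ⟨V, l, n, hyV, hn⟩
  choose V l n hyV hn using key
  obtain ⟨t, ht⟩ := hU.isCompact.elim_finite_subcover (fun y : U => (V y : Set (𝔛.X 0))) (fun y => (V y).isOpen)
    fun y hy => Set.mem_iUnion.2 ⟨⟨y, hy⟩, hyV ⟨y, hy⟩⟩
  refine ⟨t.sup n, kb_local (FPLocal.locally_of_near (fun A B k g hg => ?_) fun x hx => ?_)⟩
  · rw [FPLocal.mres_comp']
    exact hg.res k
  · obtain ⟨y, hy, hxy⟩ := Set.mem_iUnion₂.1 (ht hx)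
    exact ⟨V y, l y, hxy, (hn y).mono (Finset.le_sup hy)⟩

section

variable {C : Type u} [SmallCategory C] {J : GrothendieckTopology C} {R : Sheaf J RingCat.{u}}
  {M : SheafOfModules.{u} R} {U : C} {I : Type u} {t : I → M.val.obj (op U)}

/-- Complete relations from finite families. -/
theorem relFin_of_fintype (H : ∀ ⦃W : C⦄ (g : W ⟶ U) (S : Finset I)
    (d : I → R.obj.obj (op W)), (∀ i ∉ S, d i = 0) → ∑ i ∈ S, d i • FPLocal.mres M g.op (t i) = 0 →
    FPLocal.Locally J W fun Z l => ∃ (Q : Type u) (_ : Fintype Q)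
      (e : Q → R.obj.obj (op Z)) (c : Q → FinRel M t), ∀ i,
        ∑ x, e x * (R.obj.map (l ≫ g).op).hom ((c x).1 i) = (R.obj.map l.op).hom (d i)) : RelFin M t := by
  classical
  intro W g S d hd0 hd
  refine (H g S d hd0 hd).mono fun Z l hl => ?_
  obtain ⟨Q, _, e, c, he⟩ := hl
  refine ⟨Finset.univ.image c, fun C' => ∑ x ∈ Finset.univ.filter (fun x => c x = C'), e x,
    fun i => Eq.trans ?_ (he i)⟩
  rw [← Finset.sum_fiberwise_of_maps_to (t := Finset.univ.image c)
    (fun x _ => Finset.mem_image_of_mem _ (Finset.mem_univ x))]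
  refine Finset.sum_congr rfl fun C' _ => ?_
  rw [Finset.sum_mul]
  exact Finset.sum_congr rfl fun x hx => by rw [(Finset.mem_filter.1 hx).2]

end

variable {X : Scheme.{u}} {𝓘 : X.IdealSheafData} {hX : (FSch.completionAlong X 𝓘).IsFormal}
  [IsLocallyNoetherian X] {M : FSch.ModF (FSch.completionAlong X 𝓘) hX}

/-- Scalars congruent modulo the ideal killing a section act alike. -/
lemma smul_congr {U : ((FSch.completionAlong X 𝓘).X 0).Opens} {n : ℕ} {b c : OR (FSch.completionAlong X 𝓘) hX U}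
    (e : pr (FSch.completionAlong X 𝓘) hX U n (b - c) = 0) {s : M.val.obj (op U)} (hs : KB M n s) : b • s = c • s := by
  have h0 := hs (𝟙 U) (b - c) e
  rw [FTors.res_id] at h0
  exact sub_eq_zero.1 ((sub_smul b c s).symm.trans h0)

/-- A scalar killing locally by a power of the ideal kills. -/
lemma smul_eq_zero_of_mem (W : X.affineOpens) {n : ℕ} {a : Γ(X, W.1)} (ha : a ∈ 𝓘.ideal W ^ (n + 1))
    {s : M.val.obj (op (pre X 𝓘 W.1))} (hs : KB M n s) : sh X 𝓘 hX W.1 a • s = 0 :=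
  (smul_congr (c := 0) (by rw [sub_zero, pr_sh, ← RingHom.mem_ker, ker_qn]; exact ha) hs).trans (zero_smul _ _)

variable (M) in
/-- Sections on the completion as sections of the direct image. -/
def toPush {W : X.Opens} (s : M.val.obj (op (pre X 𝓘 W))) : ((kap X 𝓘 hX).push.obj M).val.obj (op W) := s

lemma toPush_injective {W : X.Opens} : Function.Injective (toPush M (W := W)) := fun _ _ e => e

lemma push_smul {W : X.Opens} (a : Γ(X, W)) (s : M.val.obj (op (pre X 𝓘 W))) :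
    a • toPush M s = toPush M (sh X 𝓘 hX W a • s) := rfl

lemma push_mres {W W' : X.Opens} (g : W' ⟶ W) (s : M.val.obj (op (pre X 𝓘 W))) :
    FPLocal.mres ((kap X 𝓘 hX).push.obj M) g.op (toPush M s) =
      toPush M (FPLocal.mres M ((Opens.map (ib X 𝓘)).map g).op s) := rfl

lemma push_sum {W : X.Opens} {Q : Type u} (S : Finset Q) (f : Q → M.val.obj (op (pre X 𝓘 W))) :
    ∑ q ∈ S, toPush M (f q) = toPush M (∑ q ∈ S, f q) :=
  (map_sum (AddMonoidHom.mk' (toPush M (W := W)) fun _ _ => rfl) f S).symm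

/-- Generators of the direct image. -/
theorem genFin_push (hM : IsT M) (W : X.affineOpens) {I : Type u} (t : I → M.val.obj (op (pre X 𝓘 W.1)))
    (ht : GenFin M t) : GenFin ((kap X 𝓘 hX).push.obj M) (fun i => toPush M (t i)) := by
  classical
  choose n hn using fun i => exists_kb hM (isAffineOpen_pre (𝓘 := 𝓘) W) (t i)
  intro W' g m₀
  let m : M.val.obj (op (pre X 𝓘 W')) := m₀
  refine FPLocal.locally_of_near (fun V V' k l hl => ?_) fun x hx => ?_
  · obtain ⟨S, a, ha⟩ := hl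
    refine ⟨S, fun i => ((ModSite.ringSh X.sheaf).obj.map k.op).hom (a i), ?_⟩
    have e := congrArg (FPLocal.mres ((kap X 𝓘 hX).push.obj M) k.op) ha
    rw [map_sum, ← FPLocal.mres_comp] at e
    refine Eq.trans (Finset.sum_congr rfl fun i _ => ?_) e
    rw [show ((k ≫ l) ≫ g).op = (l ≫ g).op ≫ k.op from rfl, FPLocal.mres_comp]
    exact (PresheafOfModules.map_smul ((kap X 𝓘 hX).push.obj M).val k.op (a i) _).symm
  by_cases hz : ∃ z, ib X 𝓘 z = x
  · obtain ⟨z, rfl⟩ := hz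
    obtain ⟨Z, l, hzZ, S, b, hb⟩ := FPLocal.Locally.near (ht ((Opens.map (ib X 𝓘)).map g) m) (show z ∈ pre X 𝓘 W' from hx)
    obtain ⟨W'', hle, hz'', hWZ⟩ := exists_affine_pre (X := X) (𝓘 := 𝓘) hzZ (W₀ := W') hx
    let N := S.sup n
    choose a ha using fun i => exists_sh_congr W'' N (rsO (FSch.completionAlong X 𝓘) hX hWZ (b i))
    refine ⟨W''.1, homOfLE hle, hz'', S, a, ?_⟩
    refine Eq.trans (Finset.sum_congr rfl fun i _ => ?_) ((push_sum S fun i =>
      rsO (FSch.completionAlong X 𝓘) hX hWZ (b i) • FPLocal.mres M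
        ((Opens.map (ib X 𝓘)).map (homOfLE hle ≫ g)).op (t i)).trans (congrArg (toPush M) ?_))
    · refine ((push_smul (a i) _).trans (congrArg (toPush M) ?_))
      by_cases hi : i ∈ S
      · exact (smul_congr (ha i) (((hn i).mono (Finset.le_sup hi)).res _)).symm
      · contradiction
    · have e := congrArg (FPLocal.mres M (homOfLE hWZ).op) hb
      rw [map_sum, ← FPLocal.mres_comp] at e
      refine Eq.trans (Finset.sum_congr rfl fun i _ => ?_) e
      refine Eq.trans ?_ (PresheafOfModules.map_smul M.val (homOfLE hWZ).op (b i) _).symm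
      exact congrArg (rsO (FSch.completionAlong X 𝓘) hX hWZ (b i) • ·)
        (FPLocal.mres_comp (M := M) (l ≫ (Opens.map (ib X 𝓘)).map g).op (homOfLE hWZ).op (t i))
  · let C : X.Opens := ⟨(Set.range (ib X 𝓘))ᶜ, (FSch.completionToX X 𝓘 0).isClosedEmbedding.isClosed_range.isOpen_compl⟩
    refine ⟨W' ⊓ C, homOfLE inf_le_left, ⟨hx, fun ⟨z, hzz⟩ => hz ⟨z, hzz⟩⟩, ∅, fun _ => 0, ?_⟩
    rw [Finset.sum_empty]
    exact (eq_zero_of_pre_empty M (fun z (hh : ib X 𝓘 z ∈ W' ⊓ C) => hh.2 ⟨z, rfl⟩) _).symm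

/-- Relations of the direct image. -/
theorem relFin_push (hM : IsT M) {V : ((FSch.completionAlong X 𝓘).X 0).Opens} (D : RelData M V) (W : X.affineOpens)
    (hWV : pre X 𝓘 W.1 ≤ V) {I : Type u} (t : I → M.val.obj (op (pre X 𝓘 W.1))) :
    RelFin ((kap X 𝓘 hX).push.obj M) (fun i => toPush M (t i)) := by
  classical
  have hL := isLocNoethFormal (X := X) (𝓘 := 𝓘)
  choose n hn using fun i => exists_kb hM (isAffineOpen_pre (𝓘 := 𝓘) W) (t i)
  refine relFin_of_fintype fun W' g S d hd0 hd => ?_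
  let N := S.sup n
  obtain ⟨l, c, hc0, hc⟩ := relComplete_qc hL D (isAffineOpen_pre (𝓘 := 𝓘) W) hWV fun s : ↥S => t s.1
  -- lifts of the relations
  choose c' hc' using fun k s => exists_sh_congr W N (c k s)
  haveI : IsNoetherianRing Γ(X, W.1) := IsLocallyNoetherian.component_noetherian W
  obtain ⟨G, hG⟩ := IsNoetherian.noetherian (𝓘.ideal W ^ (N + 1))
  have hrel1 : ∀ k, ∑ s : ↥S, c' k s • toPush M (t s.1) = 0 := fun k => by
    refine Eq.trans (Finset.sum_congr rfl fun s _ => (push_smul (c' k s) (t s.1)).trans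
      (congrArg (toPush M) (smul_congr (hc' k s) ((hn s.1).mono (Finset.le_sup s.2))).symm)) ?_
    exact (push_sum Finset.univ fun s : ↥S => c k s • t s.1).trans (congrArg (toPush M) (hc0 k))
  have hrel2 : ∀ (b : ↥G) (s : ↥S), b.1 • toPush M (t s.1) = 0 := fun b s =>
    (push_smul b.1 (t s.1)).trans (congrArg (toPush M) (smul_eq_zero_of_mem W
      (hG ▸ Ideal.subset_span b.2) ((hn s.1).mono (Finset.le_sup s.2))))
  let R₁ : ULift.{u} (Fin l) → FinRel ((kap X 𝓘 hX).push.obj M) (fun i => toPush M (t i)) := fun k =>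
    ⟨∑ s : ↥S, Finsupp.single s.1 (show (ModSite.ringSh X.sheaf).obj.obj (op W.1) from c' k s), by
      refine (Finsupp.sum_finsetSum_index (h := fun i a => a • toPush M (t i)) (fun i => zero_smul _ _)
        fun i a b => add_smul _ _ _).symm.trans ?_
      refine Eq.trans (Finset.sum_congr rfl fun s _ => Finsupp.sum_single_index ?_) (hrel1 k)
      exact zero_smul _ _⟩
  let R₂ : ↥G × ↥S → FinRel ((kap X 𝓘 hX).push.obj M) (fun i => toPush M (t i)) := fun p =>
    ⟨Finsupp.single p.2.1 (show (ModSite.ringSh X.sheaf).obj.obj (op W.1) from p.1.1), by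
      refine (Finsupp.sum_single_index ?_).trans (hrel2 p.1 p.2)
      exact zero_smul _ _⟩
  -- everything near a point reduces to scalars killed by the power of the ideal
  suffices H : ∀ x ∈ W', ∃ (W'' : X.affineOpens) (hle : W''.1 ≤ W'), x ∈ W''.1 ∧
      ∃ a : ULift.{u} (Fin l) → Γ(X, W''.1), ∀ s : ↥S,
        (X.presheaf.map (homOfLE hle).op).hom (d s.1) -
          ∑ k, a k * (X.presheaf.map (homOfLE (hle.trans (leOfHom g))).op).hom (c' k s) ∈ 𝓘.ideal W'' ^ (N + 1) by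
    refine FPLocal.locally_of_near (fun A B k q hq => ?_) fun x hx => ?_
    · obtain ⟨Q, hQ, e, r, he⟩ := hq
      refine ⟨Q, hQ, fun y => ((ModSite.ringSh X.sheaf).obj.map k.op).hom (e y), r, fun i => ?_⟩
      have h1 := congrArg ((ModSite.ringSh X.sheaf).obj.map k.op).hom (he i)
      rw [map_sum] at h1
      refine Eq.trans (Finset.sum_congr rfl fun y _ => ?_) (h1.trans ?_)
      · rw [map_mul]
        exact congrArg (_ * ·) (congr($((ModSite.ringSh X.sheaf).obj.map_comp (q ≫ g).op k.op) ((r y).1 i)))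
      · exact (congr($((ModSite.ringSh X.sheaf).obj.map_comp q.op k.op) (d i))).symm
    obtain ⟨W'', hle, hxW, a, ha⟩ := H x hx
    have hle' : W''.1 ≤ W.1 := hle.trans (leOfHom g)
    have hspan : ∀ s : ↥S, ∃ f : ↥G → Γ(X, W''.1), ∑ b : ↥G, f b * (X.presheaf.map (homOfLE hle').op).hom b.1 =
        (X.presheaf.map (homOfLE hle).op).hom (d s.1) -
          ∑ k, a k * (X.presheaf.map (homOfLE hle').op).hom (c' k s) := fun s => by
      have h1 := ha s
      rw [← 𝓘.map_ideal (U := W'') (V := W) hle', ← Ideal.map_pow,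
        ← (show Ideal.span (↑G : Set Γ(X, W.1)) = _ from hG), Ideal.map_span,
        Set.image_eq_range] at h1
      obtain ⟨f, hf⟩ := (Submodule.mem_span_range_iff_exists_fun _).1 h1
      exact ⟨f, hf⟩
    choose f hf using hspan
    refine ⟨W''.1, homOfLE hle, hxW, ULift.{u} (Fin l) ⊕ (↥G × ↥S), inferInstance,
      Sum.elim a (fun p => f p.2 p.1), Sum.elim R₁ R₂, fun i => ?_⟩
    rw [Fintype.sum_sum_type]
    simp only [Sum.elim_inl, Sum.elim_inr]
    show (∑ k, a k * (X.presheaf.map (homOfLE hle').op).hom ((R₁ k).1 i)) +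
      ∑ p : ↥G × ↥S, f p.2 p.1 * (X.presheaf.map (homOfLE hle').op).hom ((R₂ p).1 i) =
        (X.presheaf.map (homOfLE hle).op).hom (d i)
    by_cases hi : i ∈ S
    · have e1 : ∀ k, (R₁ k).1 i = c' k ⟨i, hi⟩ := fun k => by
        refine (Finsupp.finsetSum_apply _ _ i).trans ?_
        rw [Finset.sum_eq_single (⟨i, hi⟩ : ↥S) (fun s _ hne => Finsupp.single_eq_of_ne fun h => hne (Subtype.ext h.symm))
          (fun h => absurd (Finset.mem_univ _) h)]
        exact Finsupp.single_eq_same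
      rw [Fintype.sum_prod_type, Finset.sum_congr rfl fun k _ => by rw [e1 k]]
      refine Eq.trans (congrArg (_ + ·) (Finset.sum_congr rfl fun b _ => ?_)) ((congrArg (_ + ·) (hf ⟨i, hi⟩)).trans
        (add_sub_cancel _ _))
      rw [Finset.sum_eq_single (⟨i, hi⟩ : ↥S)]
      · exact congrArg (fun y => f ⟨i, hi⟩ b * (X.presheaf.map (homOfLE hle').op).hom y) Finsupp.single_eq_same
      · intro s _ hne
        exact (congrArg (fun y => f s b * (X.presheaf.map (homOfLE hle').op).hom y)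
          (Finsupp.single_eq_of_ne fun h => hne (Subtype.ext h.symm))).trans (by simp)
      · exact fun h => absurd (Finset.mem_univ _) h
    · have e1 : ∀ k, (R₁ k).1 i = (0 : (ModSite.ringSh X.sheaf).obj.obj (op W.1)) := fun k =>
        (Finsupp.finsetSum_apply _ _ i).trans (Finset.sum_eq_zero fun s _ =>
          Finsupp.single_eq_of_ne fun h => hi (h.symm ▸ s.2))
      rw [hd0 i hi]
      refine Eq.trans ?_ (map_zero _).symm
      refine (congrArg₂ (· + ·) (Finset.sum_eq_zero fun k _ => ?_) (Finset.sum_eq_zero fun p _ => ?_)).trans (add_zero _)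
      · exact (congrArg (fun y => a k * (X.presheaf.map (homOfLE hle').op).hom y) (e1 k)).trans (by simp)
      · exact (congrArg (fun y => f p.2 p.1 * (X.presheaf.map (homOfLE hle').op).hom y)
          (Finsupp.single_eq_of_ne fun h => hi (h.symm ▸ p.2.2) :
            (R₂ p).1 i = (0 : (ModSite.ringSh X.sheaf).obj.obj (op W.1)))).trans (by simp)
  intro x hx
  by_cases hz : ∃ z, ib X 𝓘 z = x
  · obtain ⟨z, rfl⟩ := hz
    let d' : ↥S → OR (FSch.completionAlong X 𝓘) hX (pre X 𝓘 W') := fun s => sh X 𝓘 hX W' (d s.1)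
    have hd' : ∑ s : ↥S, d' s • FPLocal.mres M ((Opens.map (ib X 𝓘)).map g).op (t s.1) = 0 := by
      refine toPush_injective ((push_sum Finset.univ fun s : ↥S =>
        d' s • FPLocal.mres M ((Opens.map (ib X 𝓘)).map g).op (t s.1)).symm.trans ?_)
      refine Eq.trans ?_ hd
      exact Finset.sum_coe_sort S fun i => d i • FPLocal.mres ((kap X 𝓘 hX).push.obj M) g.op (toPush M (t i))
    obtain ⟨Z, q, hzZ, e, he⟩ := FPLocal.Locally.near (hc ((Opens.map (ib X 𝓘)).map g) d' hd')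
      (show z ∈ pre X 𝓘 W' from hx)
    obtain ⟨W'', hle, hz'', hWZ⟩ := exists_affine_pre (X := X) (𝓘 := 𝓘) hzZ (W₀ := W') hx
    choose a ha using fun k => exists_sh_congr W'' N (rsO (FSch.completionAlong X 𝓘) hX hWZ (e k))
    refine ⟨W'', hle, hz'', a, fun s => ?_⟩
    rw [← ker_qn (hX := hX), RingHom.mem_ker, map_sub, map_sum, ← pr_sh, sh_res]
    have h1 := congrArg (rsO (FSch.completionAlong X 𝓘) hX hWZ) (he s)
    rw [map_sum] at h1
    have h2 : rsO (FSch.completionAlong X 𝓘) hX (Scheme.Hom.preimage_mono (FSch.completionToX X 𝓘 0) hle) (d' s) =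
        rsO (FSch.completionAlong X 𝓘) hX hWZ ((((FSch.completionAlong X 𝓘).Osh hX).obj.map q.op).hom (d' s)) :=
      congr($(((FSch.completionAlong X 𝓘).Osh hX).obj.map_comp q.op (homOfLE hWZ).op) (d' s))
    show pr (FSch.completionAlong X 𝓘) hX (pre X 𝓘 W''.1) N (rsO (FSch.completionAlong X 𝓘) hX _ (d' s)) - _ = 0
    rw [h2, sub_eq_zero]
    refine (congrArg (pr (FSch.completionAlong X 𝓘) hX (pre X 𝓘 W''.1) N) h1).symm.trans ?_
    rw [map_sum]
    refine Finset.sum_congr rfl fun k _ => ?_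
    rw [map_mul (qn X 𝓘 hX W''.1 N), ← pr_sh, ← pr_sh, sh_res (hle.trans (leOfHom g))]
    refine (congrArg (pr (FSch.completionAlong X 𝓘) hX (pre X 𝓘 W''.1) N) (map_mul (rsO _ hX hWZ) _ _)).trans ?_
    rw [map_mul]
    refine congrArg₂ (· * ·) (sub_eq_zero.1 ((map_sub _ _ _).symm.trans (ha k))) ?_
    have h3 : ∀ y, rsO (FSch.completionAlong X 𝓘) hX hWZ
        ((((FSch.completionAlong X 𝓘).Osh hX).obj.map (q ≫ (Opens.map (ib X 𝓘)).map g).op).hom y) =
        rsO (FSch.completionAlong X 𝓘) hX (pre_mono (hle.trans (leOfHom g))) y := fun y =>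
      (congr($(((FSch.completionAlong X 𝓘).Osh hX).obj.map_comp (q ≫ (Opens.map (ib X 𝓘)).map g).op
        (homOfLE hWZ).op) y)).symm
    refine (congrArg (pr (FSch.completionAlong X 𝓘) hX (pre X 𝓘 W''.1) N) (h3 _)).trans ?_
    refine (pr_rsO _ hX _ N _).trans (Eq.trans ?_ (pr_rsO _ hX _ N _).symm)
    exact congrArg _ (sub_eq_zero.1 ((map_sub _ _ _).symm.trans (hc' k s)))
  · obtain ⟨U, hU, hxU, hUW⟩ := exists_isAffineOpen_mem_and_subset (X := X) (x := x)
      (U := W' ⊓ ⟨(Set.range (ib X 𝓘))ᶜ, (FSch.completionToX X 𝓘 0).isClosedEmbedding.isClosed_range.isOpen_compl⟩)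
      ⟨hx, fun ⟨z, hzz⟩ => hz ⟨z, hzz⟩⟩
    refine ⟨⟨U, hU⟩, fun y hy => (hUW hy).1, hxU, fun _ => 0, fun s => ?_⟩
    rw [ideal_eq_top (𝓘 := 𝓘) ⟨U, hU⟩ (fun z hzz => (hUW hzz).2 ⟨z, rfl⟩) hX, Ideal.top_pow]
    trivial

/-- Near every point the direct image has generators with finite relations. -/
theorem exists_gen_push (hM : IsT M) [SheafOfModules.IsQuasicoherent.{u} M] {W₀ : X.Opens} {x : X} (hx : x ∈ W₀) :
    ∃ V : X.Opens, V ≤ W₀ ∧ x ∈ V ∧ ∃ (I : Type u) (t : I → ((kap X 𝓘 hX).push.obj M).val.obj (op V)),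
      GenFin ((kap X 𝓘 hX).push.obj M) t ∧ RelFin ((kap X 𝓘 hX).push.obj M) t := by
  classical
  by_cases hz : ∃ z, ib X 𝓘 z = x
  · obtain ⟨z, rfl⟩ := hz
    obtain ⟨V, hV, hzV, ⟨D⟩⟩ := exists_relData (𝔉 := M) (W := pre X 𝓘 W₀) (x := z) hx
    obtain ⟨W, hle, hzW, hWV⟩ := exists_affine_pre (X := X) (𝓘 := 𝓘) hzV hx
    let t : D.I → M.val.obj (op (pre X 𝓘 W.1)) := fun i => FPLocal.mres M (homOfLE hWV).op (D.t i)
    have ht : GenFin M t := fun Z g m => (D.gen (g ≫ homOfLE hWV) m).mono fun Z' k hk => by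
      obtain ⟨S, a, ha⟩ := hk
      refine ⟨S, a, Eq.trans (Finset.sum_congr rfl fun i _ => congrArg (a i • ·) ?_) ha⟩
      exact (FPLocal.mres_comp (M := M) (homOfLE hWV).op (k ≫ g).op (D.t i)).symm
    exact ⟨W.1, hle, hzW, D.I, _, genFin_push hM W t ht, relFin_push hM D W hWV t⟩
  · let C : X.Opens := ⟨(Set.range (ib X 𝓘))ᶜ, (FSch.completionToX X 𝓘 0).isClosedEmbedding.isClosed_range.isOpen_compl⟩
    refine ⟨W₀ ⊓ C, inf_le_left, ⟨hx, fun ⟨z, hzz⟩ => hz ⟨z, hzz⟩⟩, PEmpty.{u + 1}, fun i => i.elim,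
      fun V g m => ⟨⊤, GrothendieckTopology.top_mem _ _, fun Z l _ => ⟨∅, fun _ => 0, ?_⟩⟩,
      fun V g S d _ _ => ⟨⊤, GrothendieckTopology.top_mem _ _, fun Z l _ => ⟨∅, fun _ => 0, fun i => i.elim⟩⟩⟩
    rw [Finset.sum_empty]
    refine (eq_zero_of_pre_empty M (fun z (hh : ib X 𝓘 z ∈ Z) => ((l ≫ g).le hh).2 ⟨z, rfl⟩) _).symm

/-- Direct images of quasi-coherent torsion modules are quasi-coherent. -/
theorem isQuasicoherent_push (hM : IsT M) [SheafOfModules.IsQuasicoherent.{u} M] :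
    SheafOfModules.IsQuasicoherent.{u} ((kap X 𝓘 hX).push.obj M) := by
  refine isQuasicoherent_of_genFin _ fun W =>
    ⟨{ arrows := fun V _ => ∃ (V' : X.Opens) (_ : V ⟶ V') (I : Type u)
         (t : I → ((kap X 𝓘 hX).push.obj M).val.obj (op V')),
         GenFin ((kap X 𝓘 hX).push.obj M) t ∧ RelFin ((kap X 𝓘 hX).push.obj M) t
       downward_closed := fun {A B} _ ⟨V', f, hV'⟩ k => ⟨V', k ≫ f, hV'⟩ }, fun x hx => ?_, fun V g hg => hg⟩
  obtain ⟨V, hVW, hxV, H⟩ := exists_gen_push hM (W₀ := W) hx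
  exact ⟨V, homOfLE hVW, ⟨V, 𝟙 V, H⟩, hxV⟩

/-- Direct images of coherent torsion modules are of finite type. -/
theorem isFiniteType_push (hM : IsT M) (hc : FSch.IsCohF (FSch.completionAlong X 𝓘) hX M) :
    SheafOfModules.IsFiniteType.{u} ((kap X 𝓘 hX).push.obj M) := by
  classical
  haveI : SheafOfModules.IsFinitePresentation (R := ModSite.ringSh ((FSch.completionAlong X 𝓘).Osh hX)) M := hc
  refine FPLocal.isFiniteType_of_hasGen _ fun W₀ =>
    ⟨{ arrows := fun V _ => FPLocal.HasGen ((kap X 𝓘 hX).push.obj M) V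
       downward_closed := fun {A B} _ hA k => FPLocal.HasGen.restrict hA k }, fun x hx => ?_, fun V g hg => hg⟩
  by_cases hz : ∃ z, ib X 𝓘 z = x
  · obtain ⟨z, rfl⟩ := hz
    obtain ⟨S, hS, hS'⟩ := FPLocal.exists_sieve_hasRels M (pre X 𝓘 W₀)
    obtain ⟨V, g, hg, hzV⟩ := hS z hx
    obtain ⟨I, hI, s, hs⟩ := (hS' g hg).hasGen
    obtain ⟨W, hle, hzW, hWV⟩ := exists_affine_pre (X := X) (𝓘 := 𝓘) hzV hx
    let t : I → M.val.obj (op (pre X 𝓘 W.1)) := fun i => FPLocal.mres M (homOfLE hWV).op (s i)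
    have ht : GenFin M t := fun Z k m => by
      obtain ⟨T, hT, hT'⟩ := hs.restrict (homOfLE hWV) k m
      refine ⟨T, hT, fun Z' l hl => ?_⟩
      obtain ⟨a, ha⟩ := hT' l hl
      exact ⟨Finset.univ, a, ha⟩
    refine ⟨W.1, homOfLE hle, ⟨I, hI, fun i => toPush M (t i), fun Z k m => ?_⟩, hzW⟩
    obtain ⟨T, hT, hT'⟩ := genFin_push hM W t ht k m
    refine ⟨T, hT, fun Z' l hl => ?_⟩
    obtain ⟨S', a, ha⟩ := hT' l hl
    refine ⟨fun i => if i ∈ S' then a i else 0, Eq.trans ?_ ha⟩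
    refine (Finset.sum_subset (Finset.subset_univ S') fun i _ hi => ?_).symm.trans (Finset.sum_congr rfl fun i hi => ?_)
    · exact (congrArg (· • _) (if_neg hi)).trans (zero_smul _ _)
    · exact congrArg (· • _) (if_pos hi)
  · let C : X.Opens := ⟨(Set.range (ib X 𝓘))ᶜ, (FSch.completionToX X 𝓘 0).isClosedEmbedding.isClosed_range.isOpen_compl⟩
    refine ⟨W₀ ⊓ C, homOfLE inf_le_left, ⟨PEmpty.{u + 1}, inferInstance, fun i => i.elim,
      fun V g m => ⟨⊤, GrothendieckTopology.top_mem _ _, fun Z l _ => ⟨fun _ => 0, ?_⟩⟩⟩,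
      ⟨hx, fun ⟨z, hzz⟩ => hz ⟨z, hzz⟩⟩⟩
    rw [Finset.univ_eq_empty, Finset.sum_empty]
    refine (eq_zero_of_pre_empty M (fun z (hh : ib X 𝓘 z ∈ Z) => ((l ≫ g).le hh).2 ⟨z, rfl⟩) _).symm

end Groth.Agent.ComplTors
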