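import Groth.Agent.ComplTorsLib.Push
import Groth.Agent.ComplTorsLib.QC
import Groth.Agent.ComplTorsLib.GenDerived
import Groth.Agent.ComplTorsLib.AdjDerived2
import Groth.Agent.TorsInjLib.Derived
import Groth.Prelude.Def_SiteCmp

/-!
# Torsion cohomology on a scheme and on its completion
-/

set_option autoImplicit false
set_option linter.style.haveILetI false
set_option linter.unusedVariables false
set_option backward.isDefEq.respectTransparency false
set_option backward.isDefEq.respectTransparency.types false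
set_option maxHeartbeats 2000000
set_option synthInstance.maxHeartbeats 200000

universe u

open CategoryTheory CategoryTheory.Limits AlgebraicGeometry TopologicalSpace Opposite
attribute [local instance] HasDerivedCategory.standard

noncomputable section

namespace Groth.Agent.ComplTors

open Groth.Agent.FCompl

variable {X : Scheme.{u}} {𝓘 : X.IdealSheafData} {hX : (FSch.completionAlong X 𝓘).IsFormal}
  [IsLocallyNoetherian X]

instance pushLimits : PreservesFiniteLimits (kap X 𝓘 hX).push := exact_push.1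
instance pushColimits : PreservesFiniteColimits (kap X 𝓘 hX).push := exact_push.2
instance pullLimits : PreservesFiniteLimits (kap X 𝓘 hX).pull := exact_pull.1

variable (X 𝓘 hX) in
/-- The direct image on derived categories. -/
abbrev pushD : DerivedCategory (FSch.ModF (FSch.completionAlong X 𝓘) hX) ⥤ DerivedCategory (ModSite.Mod X.sheaf) :=
  (kap X 𝓘 hX).push.mapDerivedCategory

variable (X 𝓘 hX) in
/-- The adjunction on derived categories. -/
abbrev kadj : SiteCmp.pullD (kap X 𝓘 hX) ⊣ pushD X 𝓘 hX := derivedAdj (kap X 𝓘 hX).adj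

theorem nonempty_RpushD_iso [SiteCmp.HasRpushD (kap X 𝓘 hX)] :
    Nonempty (SiteCmp.RpushD (kap X 𝓘 hX) ≅ pushD X 𝓘 hX) :=
  nonempty_totalRightDerived_iso (kap X 𝓘 hX).push

theorem isIso_kunit (F : DerivedCategory (ModSite.Mod X.sheaf)) (hF : FTors.IsDTorsZp X 𝓘 F) :
    IsIso ((kadj X 𝓘 hX).unit.app F) :=
  isIso_derived_unit (kap X 𝓘 hX).adj F fun i => isIso_unit (hF i)

theorem isIso_kcounit (G : DerivedCategory (FSch.ModF (FSch.completionAlong X 𝓘) hX))
    (hG : FTors.IsDTorsF (FSch.completionAlong X 𝓘) hX G) : IsIso ((kadj X 𝓘 hX).counit.app G) :=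
  isIso_derived_counit (kap X 𝓘 hX).adj G fun i => isIso_counit (hG i)

theorem isDTorsF_pullD (F : DerivedCategory (ModSite.Mod X.sheaf)) (hF : FTors.IsDTorsZp X 𝓘 F) :
    FTors.IsDTorsF (FSch.completionAlong X 𝓘) hX ((SiteCmp.pullD (kap X 𝓘 hX)).obj F) := fun i => by
  obtain ⟨e⟩ := nonempty_homology_map (F := (kap X 𝓘 hX).pull) F i
  exact isT_of_iso e.symm (isT_pull (hF i))

theorem isDTorsZp_pushD (G : DerivedCategory (FSch.ModF (FSch.completionAlong X 𝓘) hX))
    (hG : FTors.IsDTorsF (FSch.completionAlong X 𝓘) hX G) : FTors.IsDTorsZp X 𝓘 ((pushD X 𝓘 hX).obj G) :=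
  fun i => by
    obtain ⟨e⟩ := nonempty_homology_map (F := (kap X 𝓘 hX).push) G i
    exact gen_isTors_of_iso _ e.symm (isTorsZp_push _ (hG i))

/-- A complex of injectives on the completion with torsion cohomology has direct image whose torsion
subcomplex is quasi-isomorphic to it. -/
theorem quasiIso_gammaCx_push (J : CochainComplex (FSch.ModF (FSch.completionAlong X 𝓘) hX) ℤ)
    [QuasiIso (TorsInj.gammaCx J)] :
    QuasiIso (genGammaCx (FTors.powIdealFam X 𝓘)
      (((kap X 𝓘 hX).push.mapHomologicalComplex (ComplexShape.up ℤ)).obj J)) := by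
  let P := (kap X 𝓘 hX).push.mapHomologicalComplex (ComplexShape.up ℤ)
  let a : P.obj (((FTors.gammaT (FSch.completionAlong X 𝓘) hX).mapHomologicalComplex (ComplexShape.up ℤ)).obj J) ≅
      ((FTors.gammaZp X 𝓘).mapHomologicalComplex (ComplexShape.up ℤ)).obj (P.obj J) :=
    HomologicalComplex.Hom.isoOfComponents (fun j => asIso (θ (J.X j))) fun i j _ => (θ_naturality (J.d i j)).symm
  have e : P.map (TorsInj.gammaCx J) = a.hom ≫ genGammaCx (FTors.powIdealFam X 𝓘) (P.obj J) := by
    ext j : 1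
    refine Eq.trans ?_ ((congrArg (θ (J.X j) ≫ ·) (genGammaCx_f _ _ j)).trans (θ_ι (J.X j))).symm
    exact congrArg (kap X 𝓘 hX).push.map (Category.comp_id _)
  haveI : QuasiIso (P.map (TorsInj.gammaCx J)) :=
    HomologicalComplex.quasiIso_map_of_preservesHomology (TorsInj.gammaCx J) _
  rw [e] at this
  exact quasiIso_of_comp_left a.hom (genGammaCx (FTors.powIdealFam X 𝓘) (P.obj J))

/-- The scheme side. -/
theorem torsAcyclic (hX : (FSch.completionAlong X 𝓘).IsFormal) : TorsAcyclic (FTors.powIdealFam X 𝓘) := by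
  intro K hK hinj hH
  have hE : FTors.IsDTorsZp X 𝓘 (DerivedCategory.Qh.obj (hc K)) :=
    fun i => gen_isTors_of_iso _ (genHmodIso K i).symm (hH i)
  obtain ⟨J, hJ, hinjJ, ⟨eJ⟩⟩ := TorsInj.exists_injective_model
    ((SiteCmp.pullD (kap X 𝓘 hX)).obj (DerivedCategory.Qh.obj (hc K)))
  haveI := hJ
  haveI := hK
  haveI := isIso_kunit (hX := hX) _ hE
  haveI : QuasiIso (TorsInj.gammaCx J) := TorsInj.quasiIso_gammaCx J isLocNoethFormal hinjJ fun i =>
    isT_of_iso (TorsInj.hmodIso J i) (TorsInj.isDTorsF_of_iso eJ.symm (isDTorsF_pullD _ hE) i)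
  haveI := quasiIso_gammaCx_push J
  let P := ((kap X 𝓘 hX).push.mapHomologicalComplex (ComplexShape.up ℤ)).obj J
  haveI := gen_isIso_gammaτ_of_quasiIso (FTors.powIdealFam X 𝓘) P
  haveI : CochainComplex.IsKInjective P := by
    haveI : (kap X 𝓘 hX).pull.PreservesMonomorphisms := inferInstance
    exact KInj.isKInjective_map_of_adjunction (kap X 𝓘 hX).adj J
  let q := HomotopyCategory.quotient (ModSite.Mod X.sheaf) (ComplexShape.up ℤ)
  let e : DerivedCategory.Qh.obj (hc P) ≅ DerivedCategory.Qh.obj (hc K) :=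
    (DerivedCategory.Qh.mapIso (((kap X 𝓘 hX).push.mapHomotopyCategoryFactors (ComplexShape.up ℤ)).app J)).symm ≪≫
      ((kap X 𝓘 hX).push.mapDerivedCategoryFactorsh.app _).symm ≪≫ (pushD X 𝓘 hX).mapIso eJ ≪≫
      (asIso ((kadj X 𝓘 hX).unit.app _)).symm
  obtain ⟨f, hf⟩ := (CochainComplex.IsKInjective.Qh_map_bijective (q.obj P) K).surjective e.hom
  obtain ⟨g, hg⟩ := (CochainComplex.IsKInjective.Qh_map_bijective (q.obj K) P).surjective e.inv
  haveI : IsIso f := ⟨g, (CochainComplex.IsKInjective.Qh_map_bijective (q.obj P) P).injective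
      (by rw [Functor.map_comp, hf, hg, Iso.hom_inv_id, CategoryTheory.Functor.map_id]),
    (CochainComplex.IsKInjective.Qh_map_bijective (q.obj K) K).injective
      (by rw [Functor.map_comp, hf, hg, Iso.inv_hom_id, CategoryTheory.Functor.map_id])⟩
  haveI : IsIso ((FTors.gammaτ (FTors.powIdealFam X 𝓘)).app (hc K)) :=
    (NatTrans.isIso_app_iff_of_iso _ (asIso f)).1 inferInstance
  rw [gen_gammaτ_app_eq] at this
  haveI : IsIso (DerivedCategory.Qh.map (q.map (genGammaCx (FTors.powIdealFam X 𝓘) K))) :=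
    IsIso.of_isIso_comp_left (DerivedCategory.Qh.map
      (((FTors.gammaZp X 𝓘).mapHomotopyCategoryFactors (ComplexShape.up ℤ)).hom.app K)) _
  rw [← DerivedCategory.isIso_Q_map_iff_quasiIso]
  exact (NatIso.isIso_map_iff (DerivedCategory.quotientCompQhIso (ModSite.Mod X.sheaf))
    (genGammaCx (FTors.powIdealFam X 𝓘) K)).1
    (show IsIso (DerivedCategory.Qh.map (q.map (genGammaCx (FTors.powIdealFam X 𝓘) K))) by assumption)

/-- `RΓ_Z'` of a direct image. -/
theorem existsUnique_iso_push (hX : (FSch.completionAlong X 𝓘).IsFormal) [SiteCmp.HasRpushD (kap X 𝓘 hX)]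
    [FTors.HasRgammaT (FSch.completionAlong X 𝓘) hX] [FTors.HasRgammaZp X 𝓘]
    (E : DerivedCategory (FSch.ModF (FSch.completionAlong X 𝓘) hX)) :
    ∃! e : (FTors.RgammaZp X 𝓘).obj ((SiteCmp.RpushD (kap X 𝓘 hX)).obj E) ≅
        (SiteCmp.RpushD (kap X 𝓘 hX)).obj ((FTors.RgammaT (FSch.completionAlong X 𝓘) hX).obj E),
      e.hom ≫ (SiteCmp.RpushD (kap X 𝓘 hX)).map ((FTors.RgammaTε (FSch.completionAlong X 𝓘) hX).app E) =
        (FTors.RgammaZpε X 𝓘).app ((SiteCmp.RpushD (kap X 𝓘 hX)).obj E) := by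
  obtain ⟨eR⟩ := nonempty_RpushD_iso (hX := hX)
  let R := SiteCmp.RpushD (kap X 𝓘 hX)
  let T := (FTors.RgammaT (FSch.completionAlong X 𝓘) hX).obj E
  let ρ := (FTors.RgammaTε (FSch.completionAlong X 𝓘) hX).app E
  let S := (FTors.RgammaZp X 𝓘).obj (R.obj E)
  let σ := (FTors.RgammaZpε X 𝓘).app (R.obj E)
  let u := kadj X 𝓘 hX
  have hT : FTors.IsDTorsZp X 𝓘 (R.obj T) :=
    gen_isDTors_of_iso _ (eR.app T).symm (isDTorsZp_pushD T (TorsInj.isDTorsF_RgammaT isLocNoethFormal E))
  have hS : FTors.IsDTorsZp X 𝓘 S := gen_isDTors_Rgamma _ _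
  have hb : Function.Bijective fun φ : S ⟶ R.obj T => φ ≫ R.map ρ := by
    haveI := isIso_kunit (hX := hX) _ hS
    haveI := TorsInj.isIso_ε_app isLocNoethFormal _ (isDTorsF_pullD (hX := hX) S hS)
    haveI := TorsInj.isIso_RgammaT_map_ε (h := hX) isLocNoethFormal E
    have h1 := TorsInj.bijective_comp_counit (FTors.RgammaTε (FSch.completionAlong X 𝓘) hX)
      ((SiteCmp.pullD (kap X 𝓘 hX)).obj S) E
    have e : (fun φ : S ⟶ R.obj T => φ ≫ R.map ρ) =
        (fun ψ : (SiteCmp.pullD (kap X 𝓘 hX)).obj S ⟶ E => u.homEquiv S E ψ ≫ eR.inv.app E) ∘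
          (fun ψ => ψ ≫ ρ) ∘ fun φ => (u.homEquiv S T).symm (φ ≫ eR.hom.app T) := by
      funext φ
      show φ ≫ R.map ρ = u.homEquiv S E ((u.homEquiv S T).symm (φ ≫ eR.hom.app T) ≫ ρ) ≫ eR.inv.app E
      rw [Adjunction.homEquiv_naturality_right, Equiv.apply_symm_apply, Category.assoc, Category.assoc]
      refine congrArg (φ ≫ ·) ?_
      rw [← eR.hom.naturality_assoc, Iso.hom_inv_id_app, Category.comp_id]
    rw [e]
    refine Function.Bijective.comp ⟨fun a b hab => (u.homEquiv S E).injective ((cancel_mono (eR.inv.app E)).1 hab),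
      fun z => ⟨(u.homEquiv S E).symm (z ≫ eR.hom.app E), ?_⟩⟩ (h1.comp ?_)
    · show u.homEquiv S E _ ≫ eR.inv.app E = z
      rw [Equiv.apply_symm_apply, Category.assoc, Iso.hom_inv_id_app]
      exact Category.comp_id z
    · exact (Equiv.bijective _).comp ⟨fun a b hab => (cancel_mono (eR.hom.app T)).1 hab,
        fun z => ⟨z ≫ eR.inv.app T, by simp⟩⟩
  obtain ⟨a, ha⟩ := hb.2 σ
  obtain ⟨b, hb'⟩ := (gen_bijective_comp_ε (FTors.powIdealFam X 𝓘) (torsAcyclic hX) (R.obj T) (R.obj E) hT).2 (R.map ρ)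
  let e : S ≅ R.obj T :=
    { hom := a
      inv := b
      hom_inv_id := (gen_bijective_comp_ε (FTors.powIdealFam X 𝓘) (torsAcyclic hX) S (R.obj E) hS).1 (by
        show (a ≫ b) ≫ σ = 𝟙 _ ≫ σ
        rw [Category.assoc, Category.id_comp]
        exact (congrArg (a ≫ ·) hb').trans ha)
      inv_hom_id := by
        haveI := isIso_kcounit (hX := hX) T (TorsInj.isDTorsF_RgammaT isLocNoethFormal E)
        haveI := TorsInj.isIso_ε_app isLocNoethFormal _ (TorsInj.isDTorsF_RgammaT (h := hX) isLocNoethFormal E)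
        haveI := TorsInj.isIso_RgammaT_map_ε (h := hX) isLocNoethFormal E
        obtain ⟨c, hc'⟩ := (bijective_map_of_natIso eR (X := T) (Y := T) (bijective_map_right u T T)).2 (b ≫ a)
        refine hc'.symm.trans ?_
        have h2 : c = 𝟙 T := by
          refine (TorsInj.bijective_comp_counit (FTors.RgammaTε (FSch.completionAlong X 𝓘) hX) T E).1 ?_
          refine (bijective_map_of_natIso eR (X := T) (Y := E) (bijective_map_right u T E)).1 ?_
          show R.map (c ≫ ρ) = R.map (𝟙 T ≫ ρ)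
          rw [Category.id_comp, R.map_comp]
          refine (congrArg (· ≫ R.map ρ) hc').trans ?_
          exact (Category.assoc _ _ _).trans ((congrArg (b ≫ ·) ha).trans hb')
        rw [h2]
        exact R.map_id T }
  refine ⟨e, ha, fun e' he' => Iso.ext (hb.1 ?_)⟩
  exact he'.trans ha.symm

end Groth.Agent.ComplTors
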