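import Groth.Agent.ComplTorsLib.CoreUnit
import Groth.Agent.ComplTorsLib.Acyclic
import Groth.Agent.ComplTorsLib.Derived
import Groth.Agent.SpSeqLib.Acyclic

/-!
# The derived torsion functor inverts the unit of the completion
-/

set_option autoImplicit false
set_option linter.style.haveILetI false
set_option linter.unusedVariables false
set_option backward.isDefEq.respectTransparency false
set_option backward.isDefEq.respectTransparency.types false
set_option maxHeartbeats 2000000
set_option synthInstance.maxHeartbeats 200000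

universe u

open CategoryTheory CategoryTheory.Limits AlgebraicGeometry TopologicalSpace Opposite
attribute [local instance] HasDerivedCategory.standard

noncomputable section

namespace Groth.Agent.ComplTors

open Groth.Agent.FCompl

variable {X : Scheme.{u}} {𝓘 : X.IdealSheafData} {hX : (FSch.completionAlong X 𝓘).IsFormal}
  [IsLocallyNoetherian X]

/-- A quasi-isomorphism of complexes of locally divisible modules stays one on torsion subcomplexes. -/
theorem quasiIso_gamma_map {K L : CochainComplex (FSch.ModF (FSch.completionAlong X 𝓘) hX) ℤ} (φ : K ⟶ L)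
    [QuasiIso φ] (hK : ∀ (W : X.affineOpens) i, LocDiv hX W (K.X i))
    (hL : ∀ (W : X.affineOpens) i, LocDiv hX W (L.X i)) :
    QuasiIso (((FTors.gammaT (FSch.completionAlong X 𝓘) hX).mapHomologicalComplex (ComplexShape.up ℤ)).map φ) := by
  rw [SpSeqLib.quasiIso_iff_acyclic_mappingCone]
  refine fun n => HomologicalComplex.ExactAt.of_iso ?_
    (CochainComplex.mappingCone.mapHomologicalComplexIso φ (FTors.gammaT (FSch.completionAlong X 𝓘) hX))
  refine acyclic_gamma ((SpSeqLib.quasiIso_iff_acyclic_mappingCone φ).1 ‹_›) (fun W i => ?_) n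
  exact locDiv_of_iso (HomologicalComplex.homotopyCofiber.XIsoBiprod φ i (i + 1) rfl).symm
    (locDiv_biprod (hK W (i + 1)) (hL W i))

variable [FTors.HasRgammaZp X 𝓘]

/-- The derived torsion functor inverts the unit. -/
theorem isIso_RgammaZp_map_kunit (F : DerivedCategory (ModSite.Mod X.sheaf)) :
    IsIso ((FTors.RgammaZp X 𝓘).map ((kadj X 𝓘 hX).unit.app F)) := by
  obtain ⟨I, hI, hinj, ⟨eF⟩⟩ := gen_exists_model F
  haveI := hI
  haveI : IsGrothendieckAbelian.{u} (FSch.ModF (FSch.completionAlong X 𝓘) hX) := S0484.result _ _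
  let P := (kap X 𝓘 hX).push.mapHomologicalComplex (ComplexShape.up ℤ)
  let L := (kap X 𝓘 hX).pull.mapHomologicalComplex (ComplexShape.up ℤ)
  let Γc := (FTors.gammaZp X 𝓘).mapHomologicalComplex (ComplexShape.up ℤ)
  obtain ⟨J, φ, hJ, hφ, -, hJinj⟩ := KInj.exists_isKInjective_resolution (L.obj I)
  haveI := hJ
  haveI := hφ
  haveI : CochainComplex.IsKInjective (P.obj J) := by
    haveI : (kap X 𝓘 hX).pull.PreservesMonomorphisms := inferInstance
    exact KInj.isKInjective_map_of_adjunction (kap X 𝓘 hX).adj J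
  let η₀ : I ⟶ P.obj (L.obj I) := (cxAdj (kap X 𝓘 hX).adj).unit.app I
  let ψ : I ⟶ P.obj J := η₀ ≫ P.map φ
  haveI : QuasiIso (P.map φ) := HomologicalComplex.quasiIso_map_of_preservesHomology φ _
  -- the torsion subcomplexes
  haveI : IsIso (Γc.map η₀) := by
    haveI : ∀ j, IsIso ((Γc.map η₀).f j) := fun j => isIso_gammaZp_map_unit (I.X j)
    exact HomologicalComplex.Hom.isIso_of_components _
  haveI : QuasiIso (Γc.map (P.map φ)) := by
    haveI := quasiIso_gamma_map φ (fun W i => by
      haveI := hinj i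
      exact locDiv_pull (I.X i)) (fun W i => by
      haveI := hJinj i
      exact locDiv_of_injective (J.X i))
    let G := (FTors.gammaT (FSch.completionAlong X 𝓘) hX).mapHomologicalComplex (ComplexShape.up ℤ)
    let a : ∀ K : CochainComplex (FSch.ModF (FSch.completionAlong X 𝓘) hX) ℤ,
        P.obj (G.obj K) ≅ Γc.obj (P.obj K) := fun K =>
      HomologicalComplex.Hom.isoOfComponents (fun j => asIso (θ (K.X j))) fun i j _ => (θ_naturality (K.d i j)).symm
    have e : P.map (G.map φ) ≫ (a J).hom = (a (L.obj I)).hom ≫ Γc.map (P.map φ) := by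
      ext j : 1
      exact θ_naturality (φ.f j)
    haveI : QuasiIso (P.map (G.map φ)) := HomologicalComplex.quasiIso_map_of_preservesHomology (G.map φ) _
    haveI : QuasiIso ((a (L.obj I)).hom ≫ Γc.map (P.map φ)) := by rw [← e]; infer_instance
    exact quasiIso_of_comp_left (a (L.obj I)).hom (Γc.map (P.map φ))
  haveI : QuasiIso (Γc.map ψ) := by
    rw [Functor.map_comp]
    infer_instance
  let q := HomotopyCategory.quotient (ModSite.Mod X.sheaf) (ComplexShape.up ℤ)
  haveI : IsIso ((FTors.gammaKh (FTors.powIdealFam X 𝓘)).map (q.map ψ)) := by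
    haveI : IsIso (DerivedCategory.Qh.map (q.map (Γc.map ψ))) :=
      (NatIso.isIso_map_iff (DerivedCategory.quotientCompQhIso (ModSite.Mod X.sheaf)) (Γc.map ψ)).2 inferInstance
    exact (NatIso.isIso_map_iff (Functor.isoWhiskerRight
      ((FTors.gammaZp X 𝓘).mapHomotopyCategoryFactors (ComplexShape.up ℤ)) DerivedCategory.Qh) ψ).2 this
  haveI := gen_isIso_unitR_app (FTors.powIdealFam X 𝓘) I
  haveI := gen_isIso_unitR_app (FTors.powIdealFam X 𝓘) (P.obj J)
  haveI : IsIso ((FTors.RgammaZp X 𝓘).map (DerivedCategory.Qh.map (q.map ψ))) :=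
    IsIso.of_isIso_fac_left ((genUnitR (FTors.powIdealFam X 𝓘)).naturality (q.map ψ)).symm
  haveI : IsIso ((FTors.RgammaZp X 𝓘).map (DerivedCategory.Q.map ψ)) :=
    (NatIso.isIso_map_iff (Functor.isoWhiskerRight (DerivedCategory.quotientCompQhIso (ModSite.Mod X.sheaf))
      (FTors.RgammaZp X 𝓘)) ψ).1 this
  haveI : IsIso ((FTors.RgammaZp X 𝓘).map (DerivedCategory.Q.map η₀)) := by
    haveI : IsIso ((FTors.RgammaZp X 𝓘).map (DerivedCategory.Q.map η₀) ≫
        (FTors.RgammaZp X 𝓘).map (DerivedCategory.Q.map (P.map φ))) := by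
      rw [← Functor.map_comp, ← Functor.map_comp]
      assumption
    exact IsIso.of_isIso_comp_right _ ((FTors.RgammaZp X 𝓘).map (DerivedCategory.Q.map (P.map φ)))
  refine (NatTrans.isIso_app_iff_of_iso (Functor.whiskerRight (kadj X 𝓘 hX).unit (FTors.RgammaZp X 𝓘))
    (((DerivedCategory.quotientCompQhIso _).app I).symm ≪≫ eF)).1 ?_
  show IsIso ((FTors.RgammaZp X 𝓘).map ((derivedAdj (kap X 𝓘 hX).adj).unit.app (DerivedCategory.Q.obj I)))
  rw [derivedAdj_unit_app, Functor.map_comp]
  infer_instance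

/-- Maps out of torsion objects do not see the completion. -/
theorem bijective_comp_kunit (A F : DerivedCategory (ModSite.Mod X.sheaf)) (hA : FTors.IsDTorsZp X 𝓘 A) :
    Function.Bijective fun φ : A ⟶ F => φ ≫ (kadj X 𝓘 hX).unit.app F := by
  let u := (kadj X 𝓘 hX).unit.app F
  let σ := (FTors.RgammaZpε X 𝓘).app F
  haveI := isIso_RgammaZp_map_kunit (𝓘 := 𝓘) (hX := hX) F
  have h1 := gen_bijective_comp_ε (FTors.powIdealFam X 𝓘) (torsAcyclic hX) A F hA
  have h2 := gen_bijective_comp_ε (FTors.powIdealFam X 𝓘) (torsAcyclic hX) A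
    ((SiteCmp.pullD (kap X 𝓘 hX) ⋙ pushD X 𝓘 hX).obj F) hA
  refine (Function.Bijective.of_comp_iff (fun φ : A ⟶ F => φ ≫ u) h1).1 ?_
  have e : ((fun φ : A ⟶ F => φ ≫ u) ∘ fun φ : A ⟶ (FTors.RgammaZp X 𝓘).obj F => φ ≫ σ) =
      (fun φ => φ ≫ (FTors.RgammaZpε X 𝓘).app _) ∘ fun φ => φ ≫ (FTors.RgammaZp X 𝓘).map u := by
    funext φ
    simp only [Function.comp_apply, Category.assoc]
    exact congrArg (φ ≫ ·) ((FTors.RgammaZpε X 𝓘).naturality u).symm
  refine (congrArg Function.Bijective e).mpr ?_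
  exact h2.comp ⟨fun a b hab => (cancel_mono _).1 hab, fun z => ⟨z ≫ inv ((FTors.RgammaZp X 𝓘).map u), by simp⟩⟩

/-- The inverse image to the completion is bijective on maps out of or into torsion objects. -/
theorem bijective_pullD (E F : DerivedCategory (ModSite.Mod X.sheaf))
    (h : FTors.IsDTorsZp X 𝓘 E ∨ FTors.IsDTorsZp X 𝓘 F) :
    Function.Bijective fun φ : E ⟶ F => (SiteCmp.pullD (kap X 𝓘 hX)).map φ := by
  refine bijective_map_left (kadj X 𝓘 hX) E F ?_
  rcases h with h | h
  · exact bijective_comp_kunit E F h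
  · haveI := isIso_kunit (hX := hX) F h
    exact ⟨fun a b hab => (cancel_mono _).1 hab, fun z => ⟨z ≫ inv ((kadj X 𝓘 hX).unit.app F), by simp⟩⟩

/-- Derived torsion commutes with the inverse image to the completion. -/
theorem existsUnique_iso_pull [FTors.HasRgammaT (FSch.completionAlong X 𝓘) hX]
    (F : DerivedCategory (ModSite.Mod X.sheaf)) :
    ∃! e : (SiteCmp.pullD (kap X 𝓘 hX)).obj ((FTors.RgammaZp X 𝓘).obj F) ≅
        (FTors.RgammaT (FSch.completionAlong X 𝓘) hX).obj ((SiteCmp.pullD (kap X 𝓘 hX)).obj F),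
      e.hom ≫ (FTors.RgammaTε (FSch.completionAlong X 𝓘) hX).app ((SiteCmp.pullD (kap X 𝓘 hX)).obj F) =
        (SiteCmp.pullD (kap X 𝓘 hX)).map ((FTors.RgammaZpε X 𝓘).app F) := by
  let R := SiteCmp.pullD (kap X 𝓘 hX)
  let S := (FTors.RgammaZp X 𝓘).obj F
  let T := (FTors.RgammaT (FSch.completionAlong X 𝓘) hX).obj (R.obj F)
  let ρ := (FTors.RgammaTε (FSch.completionAlong X 𝓘) hX).app (R.obj F)
  let σ := (FTors.RgammaZpε X 𝓘).app F
  have hS : FTors.IsDTorsZp X 𝓘 S := gen_isDTors_Rgamma _ _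
  have hT : FTors.IsDTorsF (FSch.completionAlong X 𝓘) hX T := TorsInj.isDTorsF_RgammaT isLocNoethFormal _
  haveI := TorsInj.isIso_ε_app isLocNoethFormal _ (isDTorsF_pullD (hX := hX) S hS)
  haveI := TorsInj.isIso_ε_app isLocNoethFormal _ hT
  haveI := TorsInj.isIso_RgammaT_map_ε (h := hX) isLocNoethFormal (R.obj F)
  have hbS := TorsInj.bijective_comp_counit (FTors.RgammaTε (FSch.completionAlong X 𝓘) hX) (R.obj S) (R.obj F)
  have hbT := TorsInj.bijective_comp_counit (FTors.RgammaTε (FSch.completionAlong X 𝓘) hX) T (R.obj F)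
  obtain ⟨a, ha⟩ := hbS.2 (R.map σ)
  let A := (pushD X 𝓘 hX).obj T
  have hA : FTors.IsDTorsZp X 𝓘 A := isDTorsZp_pushD T hT
  haveI := isIso_kcounit (hX := hX) T hT
  let c : R.obj A ⟶ T := (kadj X 𝓘 hX).counit.app T
  obtain ⟨b', hb'⟩ := (bijective_pullD (hX := hX) A F (Or.inl hA)).2 (c ≫ ρ)
  obtain ⟨b'', hb''⟩ := (gen_bijective_comp_ε (FTors.powIdealFam X 𝓘) (torsAcyclic hX) A F hA).2 b'
  let b : T ⟶ R.obj S := inv c ≫ R.map b''
  have hbσ : b ≫ R.map σ = ρ := by
    rw [Category.assoc, ← R.map_comp]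
    refine (congrArg (fun z => inv c ≫ R.map z) hb'').trans ?_
    exact (congrArg (inv c ≫ ·) hb').trans (IsIso.inv_hom_id_assoc c ρ)
  let e : R.obj S ≅ T :=
    { hom := a
      inv := b
      hom_inv_id := by
        obtain ⟨g, hg⟩ := (bijective_pullD (hX := hX) S S (Or.inl hS)).2 (a ≫ b)
        refine hg.symm.trans ?_
        have h2 : g = 𝟙 S := by
          refine (gen_bijective_comp_ε (FTors.powIdealFam X 𝓘) (torsAcyclic hX) S F hS).1 ?_
          refine (bijective_pullD (hX := hX) S F (Or.inl hS)).1 ?_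
          show R.map (g ≫ σ) = R.map (𝟙 S ≫ σ)
          rw [Category.id_comp, R.map_comp]
          refine (congrArg (· ≫ R.map σ) hg).trans ?_
          exact (Category.assoc _ _ _).trans ((congrArg (a ≫ ·) hbσ).trans ha)
        rw [h2]
        exact R.map_id S
      inv_hom_id := hbT.1 (by
        show (b ≫ a) ≫ ρ = 𝟙 _ ≫ ρ
        rw [Category.assoc, Category.id_comp]
        exact (congrArg (b ≫ ·) ha).trans hbσ) }
  exact ⟨e, ha, fun e' he' => Iso.ext (hbS.1 (he'.trans ha.symm))⟩

end Groth.Agent.ComplTors
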