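import Groth.Prelude.Def_FTors2
import Groth.Agent.FPLocal.Glue
import Groth.Agent.FPLocal.EpiFree
import Groth.Agent.FPLocal.Coprod
import Groth.Agent.FComplLib.Torsion
import Groth.Agent.TorsInjLib.QIso

/-!
# Torsion modules for a family of ideals on a ringed site
-/

set_option autoImplicit false
set_option linter.style.haveILetI false
set_option linter.unusedVariables false
set_option backward.isDefEq.respectTransparency false
set_option backward.isDefEq.respectTransparency.types false
set_option maxHeartbeats 1000000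

universe u

open CategoryTheory CategoryTheory.Limits Opposite

noncomputable section

namespace Groth.Agent.ComplTors

variable {C : Type u} [SmallCategory C] {J : GrothendieckTopology C} {O : Sheaf J CommRingCat.{u}}
  (I : FTors.IdealFam O) {M N : ModSite.Mod O}

theorem gen_isTors_of_epi (π : M ⟶ N) [Epi π] (hM : FTors.IsTors I M) : FTors.IsTors I N := by
  intro V s
  obtain ⟨S, hS, hS'⟩ := FPLocal.exists_sieve_preimage π s
  refine FTors.IsTorsSect.of_cover hS fun Z g hg => ?_
  obtain ⟨t, ht⟩ := hS' g hg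
  have := FTors.IsTorsSect.hom π (hM Z t)
  rw [show (π.val.app (op Z)).hom t = _ from ht] at this
  exact this

theorem gen_isTors_of_iso (e : M ≅ N) (hM : FTors.IsTors I M) : FTors.IsTors I N := gen_isTors_of_epi I e.hom hM

theorem gen_isTorsSect_of_mono (φ : M ⟶ N) [Mono φ] {V : C} (s : M.val.obj (op V))
    (hs : FTors.IsTorsSect I N (show ModSite.sect N V from (φ.val.app (op V)).hom s)) :
    FTors.IsTorsSect I M (show ModSite.sect M V from s) := by
  obtain ⟨S, hS, hS'⟩ := (FTors.IsTorsSect.iff_exists _).1 hs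
  refine (FTors.IsTorsSect.iff_exists _).2 ⟨S, hS, fun Z g hg => ?_⟩
  obtain ⟨n, hn⟩ := hS' g hg
  refine ⟨n, fun W k a ha => FPLocal.app_injective_of_mono φ W ?_⟩
  rw [map_zero, map_smul]
  have e := hn k a ha
  rw [FTors.res_hom, FTors.res_hom] at e
  exact e

theorem gen_isTors_of_mono (φ : M ⟶ N) [Mono φ] (hN : FTors.IsTors I N) : FTors.IsTors I M :=
  fun V s => gen_isTorsSect_of_mono I φ s (hN V _)

theorem gen_isTors_gamma (M : ModSite.Mod O) : FTors.IsTors I ((FTors.gamma O I).obj M) := by
  intro V s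
  obtain ⟨S, hS, hS'⟩ := (FTors.IsTorsSect.iff_exists _).1 s.2
  refine (FTors.IsTorsSect.iff_exists _).2 ⟨S, hS, fun Z g hg => ?_⟩
  obtain ⟨n, hn⟩ := hS' g hg
  exact ⟨n, fun W k a ha => Subtype.ext (hn k a ha)⟩

theorem gen_mono_gammaι (M : ModSite.Mod O) : Mono ((FTors.gammaι I).app M) := by
  refine FPLocal.mono_of_locally_zero _ fun V s hs => FPLocal.Locally.of_self fun W g => ?_
  rw [show s = 0 from Subtype.ext hs]
  exact map_zero _

theorem gen_isIso_gammaι (M : ModSite.Mod O) (hM : FTors.IsTors I M) : IsIso ((FTors.gammaι I).app M) := by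
  refine FPLocal.isIso_of_locally _ (fun V s => FPLocal.Locally.of_self fun W g =>
    ⟨⟨FPLocal.mres M g.op s, hM W _⟩, rfl⟩) fun V s hs => FPLocal.Locally.of_self fun W g => ?_
  rw [show s = 0 from Subtype.ext hs]
  exact map_zero _

theorem gen_isIso_gamma_map_ι (M : ModSite.Mod O) :
    IsIso ((FTors.gamma O I).map ((FTors.gammaι I).app M)) := by
  refine FPLocal.isIso_of_locally _ (fun V s => FPLocal.Locally.of_self fun W g =>
    ⟨⟨FPLocal.mres ((FTors.gamma O I).obj M) g.op s, gen_isTors_gamma I M W _⟩, rfl⟩)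
    fun V s hs => FPLocal.Locally.of_self fun W g => ?_
  rw [show s = 0 from Subtype.ext (Subtype.ext (congrArg Subtype.val hs))]
  exact map_zero _

variable (K : CochainComplex (ModSite.Mod O) ℤ)

/-- The inclusion of the torsion subcomplex. -/
def genGammaCx : ((FTors.gamma O I).mapHomologicalComplex (ComplexShape.up ℤ)).obj K ⟶ K :=
  (NatTrans.mapHomologicalComplex (FTors.gammaι I) (ComplexShape.up ℤ)).app K ≫
    (Functor.mapHomologicalComplexIdIso (ModSite.Mod O) (ComplexShape.up ℤ)).hom.app K

theorem genGammaCx_f (j : ℤ) : (genGammaCx I K).f j = (FTors.gammaι I).app (K.X j) := Category.comp_id _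

theorem isTors_homology (hK : ∀ i, FTors.IsTors I (K.X i)) (i : ℤ) : FTors.IsTors I (K.homology i) :=
  gen_isTors_of_epi I (K.homologyπ i) (gen_isTors_of_mono I (K.iCycles i) (hK i))

end Groth.Agent.ComplTors
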