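import Groth.Agent.ComplTorsLib.Unit
import Groth.Agent.ComplTorsLib.GenTors
import Mathlib.Algebra.Homology.ShortComplex.ExactFunctor
import Mathlib.CategoryTheory.Abelian.Exact

/-!
# Exactness of the direct image along the completion morphism, and its compatibility with torsion
-/

set_option autoImplicit false
set_option linter.style.haveILetI false
set_option linter.unusedVariables false
set_option backward.isDefEq.respectTransparency false
set_option backward.isDefEq.respectTransparency.types false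
set_option maxHeartbeats 1000000

universe u

open CategoryTheory CategoryTheory.Limits AlgebraicGeometry TopologicalSpace Opposite

noncomputable section

namespace Groth.Agent.ComplTors

open Groth.Agent.FCompl

variable {X : Scheme.{u}} {𝓘 : X.IdealSheafData} {hX : (FSch.completionAlong X 𝓘).IsFormal}

/-- The direct image along a closed subset preserves epimorphisms. -/
theorem preservesEpi_push : (kap X 𝓘 hX).push.PreservesEpimorphisms := by
  refine ⟨fun {M N} φ hφ => FPLocal.epi_of_exists_preimage _ fun W t₀ => ?_⟩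
  let t : N.val.obj (op (pre X 𝓘 W)) := t₀
  refine FPLocal.locally_of_near (P := fun V g => ∃ m : M.val.obj (op (pre X 𝓘 V)),
    (φ.val.app (op (pre X 𝓘 V))).hom m = FPLocal.mres N ((Opens.map (ib X 𝓘)).map g).op t)
    (fun V V' k g hg => ?_) fun x hx => ?_
  · obtain ⟨m, hm⟩ := hg
    refine ⟨FPLocal.mres M ((Opens.map (ib X 𝓘)).map k).op m, ?_⟩
    rw [FPLocal.app_mres, hm, ← FPLocal.mres_comp']
    rfl
  by_cases hz : ∃ z, ib X 𝓘 z = x
  · obtain ⟨z, rfl⟩ := hz
    obtain ⟨Z, l, hzZ, m, hm⟩ := FPLocal.Locally.near (FPLocal.locally_preimage φ t) (show z ∈ pre X 𝓘 W from hx)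
    obtain ⟨U, hUW, hzU, hUZ⟩ := exists_affine_pre (X := X) (𝓘 := 𝓘) hzZ (W₀ := W) hx
    refine ⟨U.1, homOfLE hUW, hzU, FPLocal.mres M (homOfLE hUZ).op m, ?_⟩
    rw [FPLocal.app_mres, hm, ← FPLocal.mres_comp']
    rfl
  · let C : X.Opens := ⟨(Set.range (ib X 𝓘))ᶜ, (FSch.completionToX X 𝓘 0).isClosedEmbedding.isClosed_range.isOpen_compl⟩
    refine ⟨W ⊓ C, homOfLE inf_le_left, ⟨hx, fun ⟨z, hzz⟩ => hz ⟨z, hzz⟩⟩, 0, ?_⟩
    rw [map_zero]
    exact (eq_zero_of_pre_empty N (fun z (h : ib X 𝓘 z ∈ W ⊓ C) => h.2 ⟨z, rfl⟩) _).symm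

/-- The direct image is exact. -/
theorem exact_push :
    PreservesFiniteLimits (kap X 𝓘 hX).push ∧ PreservesFiniteColimits (kap X 𝓘 hX).push := by
  haveI : PreservesLimitsOfSize.{0, 0} (kap X 𝓘 hX).push := (kap X 𝓘 hX).adj.rightAdjoint_preservesLimits
  haveI hl : PreservesFiniteLimits (kap X 𝓘 hX).push := inferInstance
  haveI := preservesEpi_push (X := X) (𝓘 := 𝓘) (hX := hX)
  haveI := (kap X 𝓘 hX).push.preservesHomology_of_preservesEpis_and_kernels
  exact ⟨hl, (kap X 𝓘 hX).push.preservesFiniteColimits_of_preservesHomology⟩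

/-- The inverse image is exact. -/
theorem exact_pull [IsLocallyNoetherian X] :
    PreservesFiniteLimits (kap X 𝓘 hX).pull ∧ PreservesFiniteColimits (kap X 𝓘 hX).pull := by
  haveI : PreservesColimitsOfSize.{0, 0} (kap X 𝓘 hX).pull := (kap X 𝓘 hX).adj.leftAdjoint_preservesColimits
  exact ⟨CompFlat.completion_flat X 𝓘 hX, inferInstance⟩

variable [IsLocallyNoetherian X] (M : FSch.ModF (FSch.completionAlong X 𝓘) hX)

/-- The comparison of the torsion of a direct image with the direct image of the torsion. -/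
def θ : (kap X 𝓘 hX).push.obj ((FTors.gammaT (FSch.completionAlong X 𝓘) hX).obj M) ⟶
    (FTors.gammaZp X 𝓘).obj ((kap X 𝓘 hX).push.obj M) :=
  haveI := gen_isIso_gammaι (FTors.powIdealFam X 𝓘) _ (isTorsZp_push (X := X) (𝓘 := 𝓘) _ (isT_gammaT M))
  inv ((FTors.gammaZpι X 𝓘).app ((kap X 𝓘 hX).push.obj ((FTors.gammaT (FSch.completionAlong X 𝓘) hX).obj M))) ≫
    (FTors.gammaZp X 𝓘).map ((kap X 𝓘 hX).push.map ((FTors.gammaTι (FSch.completionAlong X 𝓘) hX).app M))

lemma θ_ι : θ M ≫ (FTors.gammaZpι X 𝓘).app ((kap X 𝓘 hX).push.obj M) =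
    (kap X 𝓘 hX).push.map ((FTors.gammaTι (FSch.completionAlong X 𝓘) hX).app M) := by
  haveI := gen_isIso_gammaι (FTors.powIdealFam X 𝓘) _ (isTorsZp_push (X := X) (𝓘 := 𝓘) _ (isT_gammaT M))
  rw [θ, Category.assoc]
  exact (congrArg (_ ≫ ·) ((FTors.gammaZpι X 𝓘).naturality _)).trans (IsIso.inv_hom_id_assoc _ _)

instance isIso_θ : IsIso (θ M) := by
  haveI : Mono ((FTors.gammaZpι X 𝓘).app ((kap X 𝓘 hX).push.obj M)) := gen_mono_gammaι _ _
  haveI : Mono ((FTors.gammaTι (FSch.completionAlong X 𝓘) hX).app M) := gen_mono_gammaι _ _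
  haveI := (exact_push (X := X) (𝓘 := 𝓘) (hX := hX)).1
  haveI : Mono (θ M ≫ (FTors.gammaZpι X 𝓘).app ((kap X 𝓘 hX).push.obj M)) := by rw [θ_ι]; infer_instance
  haveI : Mono (θ M) := mono_of_mono (θ M) ((FTors.gammaZpι X 𝓘).app ((kap X 𝓘 hX).push.obj M))
  haveI : Epi (θ M) := by
    refine FPLocal.epi_of_exists_preimage _ fun W t => ⟨⊤, GrothendieckTopology.top_mem _ _, fun V g _ => ?_⟩
    let t' : ((FTors.gammaZp X 𝓘).obj ((kap X 𝓘 hX).push.obj M)).val.obj (op V) := FPLocal.mres _ g.op t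
    let m : ((FTors.gammaT (FSch.completionAlong X 𝓘) hX).obj M).val.obj (op (pre X 𝓘 V)) :=
      ⟨t'.1, isTorsSect_of_push M t'.1 t'.2⟩
    refine ⟨m, Subtype.ext ?_⟩
    exact congr($(θ_ι M).val.app (op V) m)
  exact isIso_of_mono_of_epi _

lemma θ_naturality {M N : FSch.ModF (FSch.completionAlong X 𝓘) hX} (φ : M ⟶ N) :
    (kap X 𝓘 hX).push.map ((FTors.gammaT (FSch.completionAlong X 𝓘) hX).map φ) ≫ θ N =
      θ M ≫ (FTors.gammaZp X 𝓘).map ((kap X 𝓘 hX).push.map φ) := by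
  haveI : Mono ((FTors.gammaZpι X 𝓘).app ((kap X 𝓘 hX).push.obj N)) := gen_mono_gammaι _ _
  rw [← cancel_mono ((FTors.gammaZpι X 𝓘).app ((kap X 𝓘 hX).push.obj N)), Category.assoc, θ_ι, Category.assoc]
  refine Eq.trans ?_ (congrArg (θ M ≫ ·) ((FTors.gammaZpι X 𝓘).naturality _)).symm
  rw [← Category.assoc, θ_ι, ← Functor.map_comp]
  refine Eq.trans ?_ ((kap X 𝓘 hX).push.map_comp _ _)
  exact congrArg (kap X 𝓘 hX).push.map ((FTors.gammaTι (FSch.completionAlong X 𝓘) hX).naturality φ)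

end Groth.Agent.ComplTors
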