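import Groth.Agent.ComplTorsLib.LocDiv
import Groth.Agent.ComplTorsLib.Push

/-!
# Torsion sections of inverse images on the completion are torsion sections of the scheme
-/

set_option autoImplicit false
set_option linter.style.haveILetI false
set_option linter.unusedVariables false
set_option backward.isDefEq.respectTransparency false
set_option backward.isDefEq.respectTransparency.types false
set_option maxHeartbeats 1000000

universe u

open CategoryTheory CategoryTheory.Limits AlgebraicGeometry TopologicalSpace Opposite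

noncomputable section

namespace Groth.Agent.ComplTors

open Groth.Agent.FCompl

variable {X : Scheme.{u}} {𝓘 : X.IdealSheafData} {hX : (FSch.completionAlong X 𝓘).IsFormal}
  [IsLocallyNoetherian X]

/-- Sections killed by powers of generators of the ideal are torsion. -/
theorem isTorsSect_of_gens {N : ModSite.Mod X.sheaf} (W W' : X.affineOpens) (h : W'.1 ≤ W.1) {T : Finset Γ(X, W.1)}
    (hT : Ideal.span (↑T : Set Γ(X, W.1)) = 𝓘.ideal W) {e : ℕ} (v : N.val.obj (op W'.1))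
    (hv : ∀ a ∈ T, rsX h a ^ e • v = 0) :
    FTors.IsTorsSect (FTors.powIdealFam X 𝓘) N (show ModSite.sect N W'.1 from v) := by
  haveI : IsNoetherianRing Γ(X, W'.1) := IsLocallyNoetherian.component_noetherian W'
  let A₀ : Ideal Γ(X, W'.1) := LinearMap.ker (LinearMap.toSpanSingleton Γ(X, W'.1) (N.val.obj (op W'.1)) v)
  have h1 : 𝓘.ideal W' ≤ A₀.radical := by
    rw [← 𝓘.map_ideal (U := W') (V := W) h, ← hT, Ideal.map_span, Ideal.span_le]
    rintro _ ⟨a, ha, rfl⟩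
    refine ⟨e, ?_⟩
    show rsX h a ^ e • v = 0
    exact hv a ha
  obtain ⟨k, hk⟩ := Ideal.exists_pow_le_of_le_radical_of_fg h1 (IsNoetherian.noetherian _)
  refine FTors.IsTorsSect.of_killedBy (n := k) fun W'' g a ha => ?_
  refine FPLocal.eq_of_cover N (ι := {A : X.affineOpens // A.1 ≤ W''}) (fun A => A.1.1) (fun A => homOfLE A.2)
    (fun x hx => ?_) fun A => ?_
  · obtain ⟨U, hU, hxU, hUW⟩ := exists_isAffineOpen_mem_and_subset (X := X) hx
    exact ⟨⟨⟨U, hU⟩, hUW⟩, hxU⟩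
  · have hAW : A.1.1 ≤ W'.1 := A.2.trans (leOfHom g)
    rw [map_zero, mres_smulX A.2]
    have h2 : rsX A.2 a ∈ (𝓘.ideal W' ^ k).map (rsX hAW) := by
      rw [Ideal.map_pow, show (𝓘.ideal W').map (rsX hAW) = 𝓘.ideal A.1 from 𝓘.map_ideal (U := A.1) (V := W') hAW]
      exact (FTors.mem_powIdealFam_iff X 𝓘 k W'' a).1 ha A.1 A.2
    have h3 : FPLocal.mres N (homOfLE A.2).op (FPLocal.mres N g.op v) = FPLocal.mres N (homOfLE hAW).op v :=
      (FPLocal.mres_comp (M := N) g.op (homOfLE A.2).op v).symm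
    show rsX A.2 a • FPLocal.mres N (homOfLE A.2).op (FPLocal.mres N g.op v) = 0
    rw [h3]
    generalize rsX A.2 a = b at h2
    induction h2 using Submodule.span_induction with
    | mem y hy =>
      obtain ⟨c, hc, rfl⟩ := hy
      refine (mres_smulX hAW c v).symm.trans ?_
      have h4 : c • v = 0 := hk hc
      exact (congrArg (FPLocal.mres N (homOfLE hAW).op) h4).trans (map_zero _)
    | zero => exact zero_smul _ _
    | add b c _ _ hb hc => rw [add_smul, hb, hc, add_zero]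
    | smul r b _ hb => rw [smul_eq_mul, mul_smul, hb, smul_zero]

theorem mono_gammaZp_map_unit (N : ModSite.Mod X.sheaf) :
    Mono ((FTors.gammaZp X 𝓘).map ((kap X 𝓘 hX).adj.unit.app N)) := by
  haveI : Mono ((FTors.gammaZpι X 𝓘).app N) := gen_mono_gammaι _ _
  haveI := isIso_unit (hX := hX) (N := (FTors.gammaZp X 𝓘).obj N) (gen_isTors_gamma _ N)
  haveI := (exact_pull (X := X) (𝓘 := 𝓘) (hX := hX)).1
  haveI := (exact_push (X := X) (𝓘 := 𝓘) (hX := hX)).1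
  haveI : Mono ((FTors.gammaZpι X 𝓘).app N ≫ (kap X 𝓘 hX).adj.unit.app N) := by
    rw [show (FTors.gammaZpι X 𝓘).app N ≫ (kap X 𝓘 hX).adj.unit.app N =
      (kap X 𝓘 hX).adj.unit.app _ ≫ (kap X 𝓘 hX).push.map ((kap X 𝓘 hX).pull.map ((FTors.gammaZpι X 𝓘).app N)) from
        (kap X 𝓘 hX).adj.unit.naturality _]
    infer_instance
  haveI : Mono ((FTors.gammaZp X 𝓘).map ((kap X 𝓘 hX).adj.unit.app N) ≫ (FTors.gammaZpι X 𝓘).app _) := by
    rw [(FTors.gammaZpι X 𝓘).naturality]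
    assumption
  exact mono_of_mono _ ((FTors.gammaZpι X 𝓘).app _)

theorem epi_gammaZp_map_unit (N : ModSite.Mod X.sheaf) :
    Epi ((FTors.gammaZp X 𝓘).map ((kap X 𝓘 hX).adj.unit.app N)) := by
  classical
  refine FPLocal.epi_of_exists_preimage _ fun W t₀ => ?_
  refine FPLocal.locally_of_near (fun A B k l hl => ?_) fun x hx => ?_
  · obtain ⟨t, ht⟩ := hl
    refine ⟨FPLocal.mres _ k.op t, ?_⟩
    rw [FPLocal.app_mres, ht, ← FPLocal.mres_comp']
  let t : ((kap X 𝓘 hX).pull.obj N).val.obj (op (pre X 𝓘 W)) := t₀.1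
  by_cases hz : ∃ z, ib X 𝓘 z = x
  · obtain ⟨z, rfl⟩ := hz
    obtain ⟨S, hS, hS'⟩ := (FTors.IsTorsSect.iff_exists
      (show ModSite.sect ((kap X 𝓘 hX).push.obj ((kap X 𝓘 hX).pull.obj N)) W from t₀.1)).1 t₀.2
    obtain ⟨W₁, g₁, hg₁, hzW₁⟩ := hS (ib X 𝓘 z) hx
    obtain ⟨k, hk⟩ := hS' g₁ hg₁
    obtain ⟨U, hU, hzU, hUW⟩ := exists_isAffineOpen_mem_and_subset (X := X) hzW₁
    let W₀ : X.affineOpens := ⟨U, hU⟩
    haveI : IsNoetherianRing Γ(X, W₀.1) := IsLocallyNoetherian.component_noetherian W₀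
    obtain ⟨T, hT⟩ : (𝓘.ideal W₀).FG := IsNoetherian.noetherian _
    have hUW₀ : W₀.1 ≤ W := hUW.trans (leOfHom g₁)
    let u : ((kap X 𝓘 hX).pull.obj N).val.obj (op (pre X 𝓘 W₀.1)) :=
      FPLocal.mres ((kap X 𝓘 hX).pull.obj N) (homOfLE (pre_mono (𝓘 := 𝓘) hUW₀)).op t
    have hu : ∀ a ∈ T, rsO (FSch.completionAlong X 𝓘) hX le_rfl (sh X 𝓘 hX W₀.1 a) ^ k • u = 0 := by
      intro a ha
      have ha' : a ^ k ∈ (FTors.powIdealFam X 𝓘).ideal k W₀.1 :=
        mem_powIdealFam_of_mem W₀ k (Ideal.pow_mem_pow (hT ▸ Ideal.subset_span ha) k)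
      have h1 := hk (homOfLE hUW) (a ^ k) ha'
      refine Eq.trans ?_ h1
      show _ = sh X 𝓘 hX W₀.1 (a ^ k) • FPLocal.mres ((kap X 𝓘 hX).pull.obj N)
        ((Opens.map (ib X 𝓘)).map (homOfLE hUW)).op
        (FPLocal.mres ((kap X 𝓘 hX).pull.obj N) ((Opens.map (ib X 𝓘)).map g₁).op t)
      rw [← FPLocal.mres_comp, map_pow, show rsO (FSch.completionAlong X 𝓘) hX (le_refl (pre X 𝓘 W₀.1))
        (sh X 𝓘 hX W₀.1 a) = sh X 𝓘 hX W₀.1 a from
          congr($(((FSch.completionAlong X 𝓘).Osh hX).obj.map_id (op (pre X 𝓘 W₀.1))) _)]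
      rfl
    obtain ⟨W', hW, hV', hzW', hspan⟩ := exists_killed_rep N T k (le_refl (pre X 𝓘 W₀.1)) (z := z) hzU u hu
    haveI := isIso_unit (hX := hX) (N := (FTors.gammaZp X 𝓘).obj N) (gen_isTors_gamma _ N)
    let P := ((kap X 𝓘 hX).pull.map ((FTors.gammaZpι X 𝓘).app N)).val.app (op (pre X 𝓘 W'.1))
    have hle : Submodule.span (OR (FSch.completionAlong X 𝓘) hX (pre X 𝓘 W'.1)) (killedUnits hX N hW T k) ≤
        LinearMap.range P.hom := by
      refine Submodule.span_le.2 ?_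
      rintro _ ⟨v, hv, rfl⟩
      let v' : ((FTors.gammaZp X 𝓘).obj N).val.obj (op W'.1) := ⟨v, isTorsSect_of_gens W₀ W' hW hT v hv⟩
      refine ⟨η hX _ W'.1 v', ?_⟩
      exact (congrArg (fun ψ : (FTors.gammaZp X 𝓘).obj N ⟶ _ => (ψ.val.app (op W'.1)).hom v')
        ((kap X 𝓘 hX).adj.unit.naturality ((FTors.gammaZpι X 𝓘).app N))).symm
    obtain ⟨y, hy⟩ := hle hspan
    let s : ((FTors.gammaZp X 𝓘).obj N).val.obj (op W'.1) :=
      ((inv ((kap X 𝓘 hX).adj.unit.app ((FTors.gammaZp X 𝓘).obj N))).val.app (op W'.1)).hom y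
    have hs : η hX ((FTors.gammaZp X 𝓘).obj N) W'.1 s = y :=
      congrArg (fun ψ : (kap X 𝓘 hX).push.obj ((kap X 𝓘 hX).pull.obj ((FTors.gammaZp X 𝓘).obj N)) ⟶ _ =>
        (ψ.val.app (op W'.1)).hom y) (IsIso.inv_hom_id ((kap X 𝓘 hX).adj.unit.app ((FTors.gammaZp X 𝓘).obj N)))
    refine ⟨W'.1, homOfLE (hW.trans hUW₀), hzW', s, Subtype.ext ?_⟩
    show η hX N W'.1 s.1 = FPLocal.mres ((kap X 𝓘 hX).pull.obj N)
      ((Opens.map (ib X 𝓘)).map (homOfLE (hW.trans hUW₀))).op t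
    refine Eq.trans ?_ (Eq.trans (hy.trans ?_) (rfl))
    · rw [← hs]
      exact congrArg (fun ψ : (FTors.gammaZp X 𝓘).obj N ⟶ _ => (ψ.val.app (op W'.1)).hom s)
        ((kap X 𝓘 hX).adj.unit.naturality ((FTors.gammaZpι X 𝓘).app N))
    · exact (FPLocal.mres_comp (M := (kap X 𝓘 hX).pull.obj N)
        (homOfLE (pre_mono (𝓘 := 𝓘) hUW₀)).op (homOfLE hV').op t).symm
  · let C : X.Opens := ⟨(Set.range (ib X 𝓘))ᶜ, (FSch.completionToX X 𝓘 0).isClosedEmbedding.isClosed_range.isOpen_compl⟩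
    refine ⟨W ⊓ C, homOfLE inf_le_left, ⟨hx, fun ⟨z, hzz⟩ => hz ⟨z, hzz⟩⟩, 0, ?_⟩
    rw [map_zero]
    refine Subtype.ext ?_
    exact (eq_zero_of_pre_empty ((kap X 𝓘 hX).pull.obj N)
      (fun z (h : ib X 𝓘 z ∈ W ⊓ C) => h.2 ⟨z, rfl⟩) _).symm

/-- The torsion functor inverts the unit. -/
theorem isIso_gammaZp_map_unit (N : ModSite.Mod X.sheaf) :
    IsIso ((FTors.gammaZp X 𝓘).map ((kap X 𝓘 hX).adj.unit.app N)) := by
  haveI := mono_gammaZp_map_unit (𝓘 := 𝓘) (hX := hX) N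
  haveI := epi_gammaZp_map_unit (𝓘 := 𝓘) (hX := hX) N
  exact isIso_of_mono_of_epi _

end Groth.Agent.ComplTors
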