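import Groth.Agent.ComplTorsLib.Stalk

/-!
# Torsion modules on a scheme are torsion modules on its completion
-/

set_option autoImplicit false
set_option linter.style.haveILetI false
set_option linter.unusedVariables false
set_option backward.isDefEq.respectTransparency false
set_option backward.isDefEq.respectTransparency.types false
set_option maxHeartbeats 1000000

universe u

open CategoryTheory CategoryTheory.Limits AlgebraicGeometry TopologicalSpace Opposite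

noncomputable section

namespace Groth.Agent.ComplTors

open Groth.Agent.FCompl

variable {X : Scheme.{u}} {𝓘 : X.IdealSheafData} {hX : (FSch.completionAlong X 𝓘).IsFormal}
  [IsLocallyNoetherian X]

lemma ideal_eq_top (W : X.affineOpens) (hW : ∀ z, ib X 𝓘 z ∉ W.1) (hX : (FSch.completionAlong X 𝓘).IsFormal) :
    𝓘.ideal W = ⊤ := by
  rw [Ideal.eq_top_iff_one, ← pow_one (𝓘.ideal W), show (1 : ℕ) = 0 + 1 from rfl, ← ker_qn (hX := hX) W 0,
    RingHom.mem_ker]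
  haveI : Subsingleton (LR (FSch.completionAlong X 𝓘) hX (pre X 𝓘 W.1) 0) := by
    have e : (FSch.completionAlong X 𝓘).lvU hX 0 (pre X 𝓘 W.1) = ⊥ :=
      TopologicalSpace.Opens.ext (Set.eq_empty_iff_forall_notMem.2 fun z hz => hW _ hz)
    show Subsingleton Γ((FSch.completionAlong X 𝓘).X 0, (FSch.completionAlong X 𝓘).lvU hX 0 (pre X 𝓘 W.1))
    rw [e]
    exact CommRingCat.subsingleton_of_isTerminal ((FSch.completionAlong X 𝓘).X 0).sheaf.isTerminalOfEmpty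
  exact Subsingleton.elim _ _

/-- Torsion modules vanish off the closed subset. -/
theorem exists_zero_near {N : ModSite.Mod X.sheaf} (hN : FTors.IsTorsZp X 𝓘 N)
    (hX : (FSch.completionAlong X 𝓘).IsFormal) {W : X.Opens} (m : N.val.obj (op W)) {x : X} (hx : x ∈ W)
    (hx' : ∀ z, ib X 𝓘 z ≠ x) :
    ∃ (W' : X.Opens) (g : W' ⟶ W), x ∈ W' ∧ FPLocal.mres N g.op m = 0 := by
  obtain ⟨S, hS, hS'⟩ := (FTors.IsTorsSect.iff_exists (show ModSite.sect N W from m)).1 (hN W m)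
  obtain ⟨W₁, g, hg, hxW₁⟩ := hS x hx
  obtain ⟨k, hk⟩ := hS' g hg
  obtain ⟨U, hU, hxU, hUW⟩ := exists_isAffineOpen_mem_and_subset (X := X) (x := x)
    (U := W₁ ⊓ ⟨(Set.range (ib X 𝓘))ᶜ, (FSch.completionToX X 𝓘 0).isClosedEmbedding.isClosed_range.isOpen_compl⟩)
    ⟨hxW₁, fun ⟨z, hz⟩ => hx' z hz⟩
  have htop := ideal_eq_top (𝓘 := 𝓘) ⟨U, hU⟩ (fun z hz => (hUW hz).2 ⟨z, rfl⟩) hX
  have hle : U ≤ W₁ := fun y hy => (hUW hy).1
  have h1 : (1 : Γ(X, U)) ∈ (FTors.powIdealFam X 𝓘).ideal k U :=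
    mem_powIdealFam_of_mem ⟨U, hU⟩ k (by rw [htop, Ideal.top_pow]; trivial)
  refine ⟨U, homOfLE hle ≫ g, hxU, ?_⟩
  show FTors.res N (homOfLE hle ≫ g) m = 0
  rw [FTors.res_comp]
  exact (one_smul _ _).symm.trans (hk (homOfLE hle) 1 h1)

/-- The unit on sections. -/
abbrev η (hX : (FSch.completionAlong X 𝓘).IsFormal) (N : ModSite.Mod X.sheaf) (W : X.Opens)
    (m : N.val.obj (op W)) :
    ((kap X 𝓘 hX).pull.obj N).val.obj (op (pre X 𝓘 W)) :=
  (((kap X 𝓘 hX).adj.unit.app N).val.app (op W)).hom m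

lemma η_res (N : ModSite.Mod X.sheaf) {W W' : X.Opens} (g : W' ⟶ W) (m : N.val.obj (op W)) :
    η hX N W' (FPLocal.mres N g.op m) =
      FPLocal.mres ((kap X 𝓘 hX).pull.obj N) ((Opens.map (ib X 𝓘)).map g).op (η hX N W m) :=
  FPLocal.app_mres ((kap X 𝓘 hX).adj.unit.app N) g m

theorem mono_unit {N : ModSite.Mod X.sheaf} (hN : FTors.IsTorsZp X 𝓘 N) :
    Mono ((kap X 𝓘 hX).adj.unit.app N) := by
  refine FPLocal.mono_of_locally_zero _ fun W m hm => FPLocal.locally_of_near (fun V V' k g hg => ?_) fun x hx => ?_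
  · rw [FPLocal.mres_comp', hg, map_zero]
  by_cases hz : ∃ z, ib X 𝓘 z = x
  · obtain ⟨z, rfl⟩ := hz
    letI := (RSpLib.rstkMap (ib X 𝓘) (cs X 𝓘 hX) z).hom.toAlgebra
    haveI := faithfullyFlat_rstkMap (hX := hX) z
    letI := Module.compHom (RSpLib.stk ((RSpLib.rm (ib X 𝓘) (cs X 𝓘 hX)).pull.obj N) z) (RSpLib.rstkMap (ib X 𝓘) (cs X 𝓘 hX) z).hom
    haveI : IsScalarTower (RSpLib.rstk X.sheaf (ib X 𝓘 z)) (RSpLib.rstk ((FSch.completionAlong X 𝓘).Osh hX) z)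
        (RSpLib.stk ((RSpLib.rm (ib X 𝓘) (cs X 𝓘 hX)).pull.obj N) z) := .of_algebraMap_smul fun _ _ => rfl
    have hb := RSpLib.isBaseChange_pullStkL (ib X 𝓘) (cs X 𝓘 hX) N z
    have hinj : Function.Injective (RSpLib.pullStkL (ib X 𝓘) (cs X 𝓘 hX) N z) := by
      intro a b hab
      refine Module.FaithfullyFlat.tensorProduct_mk_injective
        (B := RSpLib.rstk ((FSch.completionAlong X 𝓘).Osh hX) z) _ (hb.equiv.injective ?_)
      exact ((IsBaseChange.equiv_tmul hb 1 a).trans (one_smul _ _)).trans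
        (hab.trans ((IsBaseChange.equiv_tmul hb 1 b).trans (one_smul _ _)).symm)
    have h0 : RSpLib.germ N hx m = 0 := by
      refine hinj (Eq.trans ?_ (map_zero _).symm)
      refine (RSpLib.pullStk_germ (ib X 𝓘) (cs X 𝓘 hX) N hx m).trans ?_
      exact (congrArg (RSpLib.germ _ _) hm).trans (map_zero _)
    obtain ⟨V, hzV, i, j, e⟩ := TopCat.Presheaf.germ_eq (ModTensor.pre X.sheaf N).presheaf (ib X 𝓘 z) hx hx m 0
      (h0.trans (map_zero _).symm)
    exact ⟨V, i, hzV, e.trans (map_zero _)⟩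
  · obtain ⟨V, g, hxV, hg⟩ := exists_zero_near hN hX m hx fun z h => hz ⟨z, h⟩
    exact ⟨V, g, hxV, hg⟩

/-- Germs of inverse images of torsion modules are germs of units. -/
theorem exists_germ_η {N : ModSite.Mod X.sheaf} (hN : FTors.IsTorsZp X 𝓘 N)
    (z : (FSch.completionAlong X 𝓘).X 0) (w : RSpLib.stk ((kap X 𝓘 hX).pull.obj N) z) :
    ∃ (W : X.Opens) (hz : ib X 𝓘 z ∈ W) (m : N.val.obj (op W)),
      RSpLib.germ ((kap X 𝓘 hX).pull.obj N) (U := pre X 𝓘 W) hz (η hX N W m) = w := by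
  letI := (RSpLib.rstkMap (ib X 𝓘) (cs X 𝓘 hX) z).hom.toAlgebra
  letI := Module.compHom (RSpLib.stk ((RSpLib.rm (ib X 𝓘) (cs X 𝓘 hX)).pull.obj N) z) (RSpLib.rstkMap (ib X 𝓘) (cs X 𝓘 hX) z).hom
  haveI : IsScalarTower (RSpLib.rstk X.sheaf (ib X 𝓘 z)) (RSpLib.rstk ((FSch.completionAlong X 𝓘).Osh hX) z)
      (RSpLib.stk ((RSpLib.rm (ib X 𝓘) (cs X 𝓘 hX)).pull.obj N) z) := .of_algebraMap_smul fun _ _ => rfl
  have hb := RSpLib.isBaseChange_pullStkL (ib X 𝓘) (cs X 𝓘 hX) N z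
  suffices H : ∀ t, ∃ s, RSpLib.pullStk (ib X 𝓘) (cs X 𝓘 hX) N z s = hb.equiv t by
    obtain ⟨t, rfl⟩ := hb.equiv.surjective w
    obtain ⟨s, hs⟩ := H t
    obtain ⟨W, hW, m, rfl⟩ := TopCat.Presheaf.exists_germ_eq (ModTensor.pre X.sheaf N).presheaf s
    exact ⟨W, hW, m, (RSpLib.pullStk_germ (ib X 𝓘) (cs X 𝓘 hX) N hW m).symm.trans hs⟩
  intro t
  induction t using TensorProduct.induction_on with
  | zero => exact ⟨0, (map_zero _).trans (map_zero _).symm⟩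
  | add a b ha hb' =>
    obtain ⟨sa, hsa⟩ := ha
    obtain ⟨sb, hsb⟩ := hb'
    exact ⟨sa + sb, (map_add _ _ _).trans (Eq.trans (congrArg₂ (· + ·) hsa hsb) (map_add _ _ _).symm)⟩
  | tmul b s =>
    obtain ⟨W, hW, m, rfl⟩ := TopCat.Presheaf.exists_germ_eq (ModTensor.pre X.sheaf N).presheaf s
    obtain ⟨V, hzV, c, rfl⟩ := TopCat.Presheaf.exists_germ_eq ((FSch.completionAlong X 𝓘).Osh hX).obj b
    obtain ⟨S, hS, hS'⟩ := (FTors.IsTorsSect.iff_exists (show ModSite.sect N W from m)).1 (hN W m)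
    obtain ⟨W₁, g, hg, hzW₁⟩ := hS (ib X 𝓘 z) hW
    obtain ⟨k, hk⟩ := hS' g hg
    obtain ⟨U, hUW, hzU, hUV⟩ := exists_affine_pre (X := X) (𝓘 := 𝓘) hzV hzW₁
    let m' : N.val.obj (op U.1) := FTors.res N (homOfLE hUW) (FTors.res N g m)
    let c' : OR (FSch.completionAlong X 𝓘) hX (pre X 𝓘 U.1) := rsO (FSch.completionAlong X 𝓘) hX hUV c
    obtain ⟨a, ha⟩ := exists_sh_congr U k c'
    have hkill : KB ((kap X 𝓘 hX).pull.obj N) k (η hX N U.1 m') := by
      refine kb_of_killedBy _ k (W := U.1) _ ?_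
      exact ((hk.res (homOfLE hUW)).mono (Nat.le_succ k)).hom ((kap X 𝓘 hX).adj.unit.app N)
    have e1 : c' • η hX N U.1 m' = η hX N U.1 (a • m') := by
      have h0 := hkill (𝟙 (pre X 𝓘 U.1)) (c' - sh X 𝓘 hX U.1 a) ha
      rw [FTors.res_id] at h0
      refine (sub_eq_zero.1 ((sub_smul c' _ _).symm.trans h0)).trans ?_
      exact (map_smul (((kap X 𝓘 hX).adj.unit.app N).val.app (op U.1)).hom a m').symm
    refine ⟨RSpLib.germ N (U := U.1) hzU (a • m'), ?_⟩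
    rw [IsBaseChange.equiv_tmul]
    refine (RSpLib.pullStk_germ (ib X 𝓘) (cs X 𝓘 hX) N hzU _).trans ?_
    show RSpLib.germ _ (U := pre X 𝓘 U.1) hzU (η hX N U.1 (a • m')) = _
    rw [← e1]
    refine (RSpLib.germ_smul' _ (U := pre X 𝓘 U.1) hzU c' _).trans ?_
    refine congrArg₂ (fun (p : RSpLib.rstk ((FSch.completionAlong X 𝓘).Osh hX) z)
      (q : RSpLib.stk ((kap X 𝓘 hX).pull.obj N) z) => p • q) ?_ ?_
    · exact TopCat.Presheaf.germ_res_apply _ _ _ _ _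
    · refine (RSpLib.pullStk_germ (ib X 𝓘) (cs X 𝓘 hX) N hzU m').symm.trans ?_
      refine congrArg (RSpLib.pullStk (ib X 𝓘) (cs X 𝓘 hX) N z) ?_
      show RSpLib.germ N hzU (FTors.res N (homOfLE hUW) (FTors.res N g m)) = RSpLib.germ N hW m
      rw [← FTors.res_comp]
      exact RSpLib.germ_res N _ hzU m

theorem epi_unit {N : ModSite.Mod X.sheaf} (hN : FTors.IsTorsZp X 𝓘 N) :
    Epi ((kap X 𝓘 hX).adj.unit.app N) := by
  refine FPLocal.epi_of_exists_preimage _ fun W t₀ => ?_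
  let t : ((kap X 𝓘 hX).pull.obj N).val.obj (op (pre X 𝓘 W)) := t₀
  refine FPLocal.locally_of_near (P := fun V g => ∃ m : N.val.obj (op V), η hX N V m =
    FPLocal.mres ((kap X 𝓘 hX).pull.obj N) ((Opens.map (ib X 𝓘)).map g).op t) (fun V V' k g hg => ?_) fun x hx => ?_
  · obtain ⟨m, hm⟩ := hg
    refine ⟨FPLocal.mres N k.op m, ?_⟩
    rw [η_res, hm, ← FPLocal.mres_comp']
    rfl
  by_cases hz : ∃ z, ib X 𝓘 z = x
  · obtain ⟨z, rfl⟩ := hz
    obtain ⟨W₁, hzW₁, m, hm⟩ := exists_germ_η hN z (RSpLib.germ _ (U := pre X 𝓘 W) hx t)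
    obtain ⟨V, hzV, i, j, e⟩ := TopCat.Presheaf.germ_eq
      (ModTensor.pre ((FSch.completionAlong X 𝓘).Osh hX) ((kap X 𝓘 hX).pull.obj N)).presheaf z
      (U := pre X 𝓘 W₁) (V := pre X 𝓘 W) hzW₁ hx _ t hm
    obtain ⟨U, hUW, hzU, hUV⟩ := exists_affine_pre (X := X) (𝓘 := 𝓘) hzV (W₀ := W₁ ⊓ W) ⟨hzW₁, hx⟩
    refine ⟨U.1, homOfLE (hUW.trans inf_le_right), hzU, FPLocal.mres N (homOfLE (hUW.trans inf_le_left)).op m, ?_⟩
    rw [η_res]
    have e' := congrArg (FPLocal.mres ((kap X 𝓘 hX).pull.obj N) (homOfLE hUV).op) e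
    refine Eq.trans ?_ (Eq.trans e' (FPLocal.mres_comp (M := (kap X 𝓘 hX).pull.obj N) j.op (homOfLE hUV).op t).symm)
    exact FPLocal.mres_comp (M := (kap X 𝓘 hX).pull.obj N) i.op (homOfLE hUV).op (η hX N W₁ m)
  · let C : X.Opens := ⟨(Set.range (ib X 𝓘))ᶜ, (FSch.completionToX X 𝓘 0).isClosedEmbedding.isClosed_range.isOpen_compl⟩
    refine ⟨W ⊓ C, homOfLE inf_le_left, ⟨hx, fun ⟨z, hzz⟩ => hz ⟨z, hzz⟩⟩, 0, ?_⟩
    refine (eq_zero_of_pre_empty ((kap X 𝓘 hX).pull.obj N) (fun z (h : ib X 𝓘 z ∈ W ⊓ C) => h.2 ⟨z, rfl⟩) _).trans ?_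
    exact (eq_zero_of_pre_empty ((kap X 𝓘 hX).pull.obj N) (fun z (h : ib X 𝓘 z ∈ W ⊓ C) => h.2 ⟨z, rfl⟩) _).symm

/-- The unit is invertible on torsion modules. -/
theorem isIso_unit {N : ModSite.Mod X.sheaf} (hN : FTors.IsTorsZp X 𝓘 N) :
    IsIso ((kap X 𝓘 hX).adj.unit.app N) := by
  haveI := mono_unit (hX := hX) hN
  haveI := epi_unit (hX := hX) hN
  exact isIso_of_mono_of_epi _

/-- Inverse images of torsion modules are torsion. -/
theorem isT_pull {N : ModSite.Mod X.sheaf} (hN : FTors.IsTorsZp X 𝓘 N) : IsT ((kap X 𝓘 hX).pull.obj N) := by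
  refine isT_of_isTorsZp_push _ fun W s => ?_
  haveI := isIso_unit (hX := hX) hN
  have e : (((kap X 𝓘 hX).adj.unit.app N).val.app (op W)).hom
      (((inv ((kap X 𝓘 hX).adj.unit.app N)).val.app (op W)).hom s) = s :=
    congrArg (fun f : (kap X 𝓘 hX).push.obj ((kap X 𝓘 hX).pull.obj N) ⟶ _ => (f.val.app (op W)).hom s)
      (IsIso.inv_hom_id ((kap X 𝓘 hX).adj.unit.app N))
  rw [← e]
  exact FTors.IsTorsSect.hom _ (hN W _)

/-- The counit is invertible on torsion modules. -/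
theorem isIso_counit {M : FSch.ModF (FSch.completionAlong X 𝓘) hX} (hM : IsT M) :
    IsIso ((kap X 𝓘 hX).adj.counit.app M) := by
  haveI := isIso_unit (hX := hX) (isTorsZp_push M hM)
  haveI : IsIso ((kap X 𝓘 hX).push.map ((kap X 𝓘 hX).adj.counit.app M)) :=
    IsIso.of_isIso_fac_left ((kap X 𝓘 hX).adj.right_triangle_components M)
  have key : ∀ V, Function.Bijective (((kap X 𝓘 hX).adj.counit.app M).val.app (op V)).hom := fun V => by
    obtain ⟨W, rfl⟩ := exists_pre_eq V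
    haveI : IsIso ((PresheafOfModules.evaluation _ (op W)).map
        ((SheafOfModules.forget _).map ((kap X 𝓘 hX).push.map ((kap X 𝓘 hX).adj.counit.app M)))) := inferInstance
    exact ConcreteCategory.bijective_of_isIso ((PresheafOfModules.evaluation _ (op W)).map
      ((SheafOfModules.forget _).map ((kap X 𝓘 hX).push.map ((kap X 𝓘 hX).adj.counit.app M))))
  haveI : Mono ((kap X 𝓘 hX).adj.counit.app M) := FPLocal.mono_of_locally_zero _ fun V m hm =>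
    ⟨⊤, GrothendieckTopology.top_mem _ _, fun Z g _ => by
      exact (congrArg (FPLocal.mres _ g.op) ((key V).1 (hm.trans (map_zero _).symm))).trans (map_zero _)⟩
  haveI : Epi ((kap X 𝓘 hX).adj.counit.app M) := FPLocal.epi_of_exists_preimage _ fun V m =>
    ⟨⊤, GrothendieckTopology.top_mem _ _, fun Z g _ => (key Z).2 _⟩
  exact isIso_of_mono_of_epi _

end Groth.Agent.ComplTors
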