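import Groth.Agent.ComplTorsLib.KilledTensor
import Groth.Agent.ComplTorsLib.Unit

/-!
# Killed sections of inverse images on the completion
-/

set_option autoImplicit false
set_option linter.style.haveILetI false
set_option linter.unusedVariables false
set_option backward.isDefEq.respectTransparency false
set_option backward.isDefEq.respectTransparency.types false
set_option maxHeartbeats 1000000

universe u

open CategoryTheory CategoryTheory.Limits AlgebraicGeometry TopologicalSpace Opposite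

noncomputable section

namespace Groth.Agent.ComplTors

open Groth.Agent.FCompl

variable {X : Scheme.{u}} {𝓘 : X.IdealSheafData} {hX : (FSch.completionAlong X 𝓘).IsFormal}
  [IsLocallyNoetherian X]

/-- Restriction of scalars of the scheme. -/
abbrev rsX {W W' : X.Opens} (h : W' ≤ W) : Γ(X, W) →+* Γ(X, W') := (X.presheaf.map (homOfLE h).op).hom

lemma rsX_rsX {W W' W'' : X.Opens} (h : W' ≤ W) (h' : W'' ≤ W') (a : Γ(X, W)) :
    rsX h' (rsX h a) = rsX (h'.trans h) a :=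
  congr($((X.presheaf.map_comp (homOfLE h).op (homOfLE h').op).symm) a)

variable (hX) in
/-- Units of sections killed by powers of a family. -/
def killedUnits (N : ModSite.Mod X.sheaf) {W W' : X.Opens} (hW : W' ≤ W) (T : Finset Γ(X, W)) (e : ℕ) :
    Set (((kap X 𝓘 hX).pull.obj N).val.obj (op (pre X 𝓘 W'))) :=
  (fun v => η hX N W' v) '' {v : N.val.obj (op W') | ∀ a ∈ T, rsX hW a ^ e • v = 0}

lemma mres_mem_span (N : ModSite.Mod X.sheaf) {W W' W'' : X.Opens} (hW : W' ≤ W) (hW' : W'' ≤ W')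
    (T : Finset Γ(X, W)) (e : ℕ) {y : ((kap X 𝓘 hX).pull.obj N).val.obj (op (pre X 𝓘 W'))}
    (hy : y ∈ Submodule.span (OR (FSch.completionAlong X 𝓘) hX (pre X 𝓘 W')) (killedUnits hX N hW T e)) :
    FPLocal.mres ((kap X 𝓘 hX).pull.obj N) (homOfLE (pre_mono (𝓘 := 𝓘) hW')).op y ∈
      Submodule.span (OR (FSch.completionAlong X 𝓘) hX (pre X 𝓘 W'')) (killedUnits hX N (hW'.trans hW) T e) := by
  induction hy using Submodule.span_induction with
  | mem y hy =>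
    obtain ⟨v, hv, rfl⟩ := hy
    refine Submodule.subset_span ⟨FPLocal.mres N (homOfLE hW').op v, fun a ha => ?_, η_res N (homOfLE hW') v⟩
    have h1 := congrArg (FPLocal.mres N (homOfLE hW').op) (hv a ha)
    rw [map_zero] at h1
    refine Eq.trans ?_ h1
    refine Eq.trans ?_ (PresheafOfModules.map_smul N.val (homOfLE hW').op (rsX hW a ^ e) v).symm
    rw [← rsX_rsX hW hW', ← map_pow]
    rfl
  | zero => rw [map_zero]; exact zero_mem _
  | add a b _ _ ha hb => rw [map_add]; exact add_mem ha hb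
  | smul r b _ hb =>
    rw [mres_smul']
    exact Submodule.smul_mem _ _ hb

/-- Killed sections of an inverse image are locally combinations of units of killed sections. -/
theorem exists_killed_rep (N : ModSite.Mod X.sheaf) {W : X.Opens} (T : Finset Γ(X, W)) (e : ℕ)
    {V : ((FSch.completionAlong X 𝓘).X 0).Opens} (hV : V ≤ pre X 𝓘 W) {z : (FSch.completionAlong X 𝓘).X 0}
    (hz : z ∈ V) (u : ((kap X 𝓘 hX).pull.obj N).val.obj (op V))
    (hu : ∀ a ∈ T, rsO (FSch.completionAlong X 𝓘) hX hV (sh X 𝓘 hX W a) ^ e • u = 0) :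
    ∃ (W' : X.affineOpens) (hW : W'.1 ≤ W) (hV' : pre X 𝓘 W'.1 ≤ V), ib X 𝓘 z ∈ W'.1 ∧
      FPLocal.mres ((kap X 𝓘 hX).pull.obj N) (homOfLE hV').op u ∈
        Submodule.span (OR (FSch.completionAlong X 𝓘) hX (pre X 𝓘 W'.1)) (killedUnits hX N hW T e) := by
  classical
  letI := (RSpLib.rstkMap (ib X 𝓘) (cs X 𝓘 hX) z).hom.toAlgebra
  haveI : Module.Flat (RSpLib.rstk X.sheaf (ib X 𝓘 z)) (RSpLib.rstk ((FSch.completionAlong X 𝓘).Osh hX) z) :=
    flat_rstkMap z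
  letI := Module.compHom (RSpLib.stk ((RSpLib.rm (ib X 𝓘) (cs X 𝓘 hX)).pull.obj N) z)
    (RSpLib.rstkMap (ib X 𝓘) (cs X 𝓘 hX) z).hom
  haveI : IsScalarTower (RSpLib.rstk X.sheaf (ib X 𝓘 z)) (RSpLib.rstk ((FSch.completionAlong X 𝓘).Osh hX) z)
      (RSpLib.stk ((RSpLib.rm (ib X 𝓘) (cs X 𝓘 hX)).pull.obj N) z) := .of_algebraMap_smul fun _ _ => rfl
  have hb := RSpLib.isBaseChange_pullStkL (ib X 𝓘) (cs X 𝓘 hX) N z
  have hzW : ib X 𝓘 z ∈ W := hV hz
  let gm : Γ(X, W) → RSpLib.rstk X.sheaf (ib X 𝓘 z) := fun a =>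
    TopCat.Presheaf.germ X.sheaf.obj W (ib X 𝓘 z) hzW a ^ e
  let T' := T.image gm
  obtain ⟨t, ht⟩ := hb.equiv.surjective (RSpLib.germ ((kap X 𝓘 hX).pull.obj N) hz u)
  have hkill : ∀ b ∈ T', b • t = 0 := by
    intro b hb'
    obtain ⟨a, ha, rfl⟩ := Finset.mem_image.1 hb'
    refine hb.equiv.injective ?_
    rw [map_zero, ← algebraMap_smul (RSpLib.rstk ((FSch.completionAlong X 𝓘).Osh hX) z) (gm a) t, map_smul, ht]
    have h1 := congrArg (RSpLib.germ ((kap X 𝓘 hX).pull.obj N) hz) (hu a ha)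
    rw [map_zero] at h1
    refine Eq.trans ?_ h1
    refine Eq.trans ?_ (RSpLib.germ_smul' ((kap X 𝓘 hX).pull.obj N) hz _ _).symm
    refine congrArg (fun p : RSpLib.rstk ((FSch.completionAlong X 𝓘).Osh hX) z =>
      p • RSpLib.germ ((kap X 𝓘 hX).pull.obj N) hz u) ?_
    show (RSpLib.rstkMap (ib X 𝓘) (cs X 𝓘 hX) z).hom (gm a) = _
    rw [map_pow, map_pow]
    refine congrArg (· ^ e) ?_
    refine (RSpLib.rstkMap_germ (ib X 𝓘) (cs X 𝓘 hX) hzW a).trans ?_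
    exact (TopCat.Presheaf.germ_res_apply ((FSch.completionAlong X 𝓘).Osh hX).obj (homOfLE hV) z hz _).symm
  obtain ⟨s, rfl⟩ := exists_tensor_killed T' t hkill
  suffices H : ∀ s, ∃ (W' : X.Opens) (hW : W' ≤ W) (hz' : ib X 𝓘 z ∈ W')
      (y : ((kap X 𝓘 hX).pull.obj N).val.obj (op (pre X 𝓘 W'))),
      y ∈ Submodule.span (OR (FSch.completionAlong X 𝓘) hX (pre X 𝓘 W')) (killedUnits hX N hW T e) ∧
        RSpLib.germ ((kap X 𝓘 hX).pull.obj N) (U := pre X 𝓘 W') hz' y =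
          hb.equiv ((killedSub (M := RSpLib.stk N (ib X 𝓘 z)) T').subtype.lTensor _ s) by
    obtain ⟨W', hW, hz', y, hy, hgy⟩ := H s
    obtain ⟨Z, hzZ, i, j, eq⟩ := TopCat.Presheaf.germ_eq
      (ModTensor.pre ((FSch.completionAlong X 𝓘).Osh hX) ((kap X 𝓘 hX).pull.obj N)).presheaf z
      (U := pre X 𝓘 W') (V := V) hz' hz y u (hgy.trans ht)
    obtain ⟨U, hUW, hzU, hUZ⟩ := exists_affine_pre (X := X) (𝓘 := 𝓘) hzZ hz'
    refine ⟨U, hUW.trans hW, hUZ.trans (leOfHom j), hzU, ?_⟩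
    have h2 : FPLocal.mres ((kap X 𝓘 hX).pull.obj N) (homOfLE (pre_mono (𝓘 := 𝓘) hUW)).op y =
        FPLocal.mres ((kap X 𝓘 hX).pull.obj N) (homOfLE (hUZ.trans (leOfHom j))).op u :=
      ((FPLocal.mres_comp (M := (kap X 𝓘 hX).pull.obj N) i.op (homOfLE hUZ).op y).trans
        (congrArg (FPLocal.mres ((kap X 𝓘 hX).pull.obj N) (homOfLE hUZ).op) eq)).trans
          (FPLocal.mres_comp (M := (kap X 𝓘 hX).pull.obj N) j.op (homOfLE hUZ).op u).symm
    exact h2 ▸ mres_mem_span N hW hUW T e hy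
  intro s
  induction s using TensorProduct.induction_on with
  | zero =>
    refine ⟨W, le_rfl, hzW, 0, zero_mem _, ?_⟩
    rw [map_zero, map_zero]
    exact (map_zero hb.equiv).symm
  | add p q hp hq =>
    obtain ⟨W₁, hW₁, hz₁, y₁, hy₁, hg₁⟩ := hp
    obtain ⟨W₂, hW₂, hz₂, y₂, hy₂, hg₂⟩ := hq
    refine ⟨W₁ ⊓ W₂, inf_le_left.trans hW₁, ⟨hz₁, hz₂⟩, _,
      add_mem (mres_mem_span N hW₁ (inf_le_left (b := W₂)) T e hy₁)
        (mres_mem_span N hW₂ (inf_le_right (a := W₁)) T e hy₂), ?_⟩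
    rw [map_add, map_add, map_add, ← hg₁, ← hg₂]
    exact congrArg₂ (· + ·)
      (RSpLib.germ_res ((kap X 𝓘 hX).pull.obj N) (homOfLE (pre_mono (𝓘 := 𝓘) inf_le_left)) (x := z) ⟨hz₁, hz₂⟩ y₁)
      (RSpLib.germ_res ((kap X 𝓘 hX).pull.obj N) (homOfLE (pre_mono (𝓘 := 𝓘) inf_le_right)) (x := z) ⟨hz₁, hz₂⟩ y₂)
  | tmul b v =>
    obtain ⟨W₁, hz₁, m, hm⟩ := TopCat.Presheaf.exists_germ_eq (ModTensor.pre X.sheaf N).presheaf v.1
    obtain ⟨V₁, hzV₁, c, rfl⟩ := TopCat.Presheaf.exists_germ_eq ((FSch.completionAlong X 𝓘).Osh hX).obj b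
    -- a neighbourhood on which the lift is killed
    have hnear : ∀ a : ↥T, ∃ (B : X.Opens) (hB : B ≤ W₁ ⊓ W), ib X 𝓘 z ∈ B ∧
        rsX (hB.trans inf_le_right) a.1 ^ e • FPLocal.mres N (homOfLE (hB.trans inf_le_left)).op m = 0 := by
      intro a
      have h0 : RSpLib.germ N (U := W₁ ⊓ W) ⟨hz₁, hzW⟩
          ((rsX (inf_le_right (a := W₁)) a.1 ^ e : Γ(X, W₁ ⊓ W)) •
            FPLocal.mres N (homOfLE (inf_le_left (b := W))).op m) = 0 := by
        refine (RSpLib.germ_smul' N (U := W₁ ⊓ W) ⟨hz₁, hzW⟩ _ _).trans ?_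
        refine Eq.trans ?_ (v.2 (gm a.1) (Finset.mem_image_of_mem gm a.2))
        refine congrArg₂ (fun (p : RSpLib.rstk X.sheaf (ib X 𝓘 z)) (q : RSpLib.stk N (ib X 𝓘 z)) => p • q) ?_ ?_
        · rw [map_pow]
          exact congrArg (· ^ e) (TopCat.Presheaf.germ_res_apply X.sheaf.obj _ _ _ _)
        · exact (RSpLib.germ_res N (homOfLE inf_le_left) (x := ib X 𝓘 z) ⟨hz₁, hzW⟩ m).trans hm
      obtain ⟨B, hzB, i, j, eq⟩ := TopCat.Presheaf.germ_eq (ModTensor.pre X.sheaf N).presheaf (ib X 𝓘 z)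
        (U := W₁ ⊓ W) (V := W₁ ⊓ W)
        ⟨hz₁, hzW⟩ ⟨hz₁, hzW⟩ _ 0 (h0.trans (map_zero _).symm)
      refine ⟨B, leOfHom i, hzB, ?_⟩
      refine Eq.trans ?_ (eq.trans (map_zero _))
      refine Eq.trans ?_ (PresheafOfModules.map_smul N.val i.op
        (rsX (inf_le_right (a := W₁)) a.1 ^ e : Γ(X, W₁ ⊓ W)) _).symm
      refine congrArg₂ (fun (p : Γ(X, B)) (q : N.val.obj (op B)) => p • q) ?_ ?_
      · exact ((congrArg (· ^ e) (rsX_rsX _ _ a.1).symm).trans (map_pow _ _ e).symm)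
      · exact FPLocal.mres_comp (M := N) (homOfLE inf_le_left).op i.op m
    choose B hB hzB heq using hnear
    let O : X.Opens := ⟨(W₁ ⊓ W : X.Opens) ∩ ⋂ a : ↥T, (B a : Set X),
      (W₁ ⊓ W).isOpen.inter (isOpen_iInter_of_finite fun a => (B a).isOpen)⟩
    obtain ⟨U, hUO, hzU, hUV⟩ := exists_affine_pre (X := X) (𝓘 := 𝓘) hzV₁ (W₀ := O)
      ⟨⟨hz₁, hzW⟩, Set.mem_iInter.2 fun a => hzB a⟩
    have hU1 : U.1 ≤ W₁ := fun x hx => (hUO hx).1.1
    have hUW : U.1 ≤ W := fun x hx => (hUO hx).1.2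
    refine ⟨U.1, hUW, hzU, rsO (FSch.completionAlong X 𝓘) hX hUV c • η hX N U.1 (FPLocal.mres N (homOfLE hU1).op m),
      Submodule.smul_mem _ _ (Submodule.subset_span ⟨_, fun a ha => ?_, rfl⟩), ?_⟩
    · have hUB : U.1 ≤ B ⟨a, ha⟩ := fun x hx => Set.mem_iInter.1 (hUO hx).2 ⟨a, ha⟩
      have h1 := congrArg (FPLocal.mres N (homOfLE hUB).op) (heq ⟨a, ha⟩)
      rw [map_zero] at h1
      refine Eq.trans ?_ h1
      refine Eq.trans ?_ (PresheafOfModules.map_smul N.val (homOfLE hUB).op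
        (rsX ((hB ⟨a, ha⟩).trans inf_le_right) a ^ e) _).symm
      refine congrArg₂ (fun (p : Γ(X, U.1)) (q : N.val.obj (op U.1)) => p • q) ?_ ?_
      · exact ((congrArg (· ^ e) (rsX_rsX _ _ a).symm).trans (map_pow _ _ e).symm)
      · exact FPLocal.mres_comp (M := N) (homOfLE ((hB ⟨a, ha⟩).trans inf_le_left)).op (homOfLE hUB).op m
    · rw [LinearMap.lTensor_tmul, IsBaseChange.equiv_tmul]
      refine (RSpLib.germ_smul' _ (U := pre X 𝓘 U.1) hzU _ _).trans ?_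
      refine congrArg₂ (fun (p : RSpLib.rstk ((FSch.completionAlong X 𝓘).Osh hX) z)
        (q : RSpLib.stk ((kap X 𝓘 hX).pull.obj N) z) => p • q) ?_ ?_
      · exact TopCat.Presheaf.germ_res_apply _ _ _ _ _
      · refine (RSpLib.pullStk_germ (ib X 𝓘) (cs X 𝓘 hX) N hzU _).symm.trans ?_
        refine congrArg (RSpLib.pullStk (ib X 𝓘) (cs X 𝓘 hX) N z) ?_
        exact (RSpLib.germ_res N (homOfLE hU1) (x := ib X 𝓘 z) hzU m).trans hm

end Groth.Agent.ComplTors
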