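import Mathlib.RingTheory.Flat.Basic
import Mathlib.LinearAlgebra.TensorProduct.RightExactness

/-!
# Killed elements of a flat base change
-/

set_option autoImplicit false
universe u

open TensorProduct

namespace Groth.Agent.ComplTors

variable {R S M : Type*} [CommRing R] [CommRing S] [Algebra R S] [Module.Flat R S] [AddCommGroup M] [Module R M]

/-- The elements killed by a finite family. -/
def killedSub (T : Finset R) : Submodule R M where
  carrier := {v | ∀ a ∈ T, a • v = 0}
  add_mem' := fun hv hw a ha => by rw [smul_add, hv a ha, hw a ha, add_zero]
  zero_mem' := fun a _ => smul_zero a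
  smul_mem' := fun c v hv a ha => by rw [smul_comm, hv a ha, smul_zero]

/-- In a flat base change, elements killed by a finite family are combinations of elements killed by it. -/
theorem exists_tensor_killed (T : Finset R) (t : S ⊗[R] M) (ht : ∀ a ∈ T, a • t = 0) :
    t ∈ LinearMap.range ((killedSub (M := M) T).subtype.lTensor S) := by
  classical
  induction T using Finset.induction with
  | empty =>
    have h : killedSub (M := M) (∅ : Finset R) = ⊤ := eq_top_iff.2 fun v _ a ha => absurd ha (Finset.notMem_empty a)
    have hs : Function.Surjective (killedSub (M := M) (∅ : Finset R)).subtype :=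
      fun v => ⟨⟨v, h ▸ trivial⟩, rfl⟩
    exact LinearMap.lTensor_surjective S hs t
  | insert a T _ ih =>
    obtain ⟨t', rfl⟩ := ih fun b hb => ht b (Finset.mem_insert_of_mem hb)
    have h1 : a • t' = 0 := by
      refine Module.Flat.lTensor_preserves_injective_linearMap (M := S) (killedSub (M := M) T).subtype
        Subtype.val_injective ?_
      rw [map_smul, map_zero]
      exact ht a (Finset.mem_insert_self a T)
    let i : killedSub (M := M) (insert a T) →ₗ[R] killedSub (M := M) T :=
      Submodule.inclusion fun v hv b hb => hv b (Finset.mem_insert_of_mem hb)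
    let α : killedSub (M := M) T →ₗ[R] killedSub (M := M) T := a • LinearMap.id
    have hex : Function.Exact i α := fun y => by
      refine ⟨fun hy => ⟨⟨y.1, fun b hb => ?_⟩, Subtype.ext rfl⟩, ?_⟩
      · rcases Finset.mem_insert.1 hb with rfl | hb
        · exact congrArg Subtype.val hy
        · exact y.2 b hb
      · rintro ⟨w, rfl⟩
        exact Subtype.ext (w.2 a (Finset.mem_insert_self a T))
    have h2 : α.lTensor S t' = 0 := by
      rw [LinearMap.lTensor_smul, LinearMap.lTensor_id]
      exact h1
    obtain ⟨t'', ht''⟩ := (Module.Flat.lTensor_exact S hex t').1 h2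
    refine ⟨t'', ?_⟩
    rw [← ht'', ← LinearMap.comp_apply, ← LinearMap.lTensor_comp]
    rfl

end Groth.Agent.ComplTors
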