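import Groth.Agent.ComplTorsLib.KilledRep
import Groth.Agent.TorsInjLib.QIso
import Mathlib.Algebra.Homology.HomotopyCategory.MappingCone

/-!
# Local divisibility, and torsion subcomplexes of acyclic complexes
-/

set_option autoImplicit false
set_option linter.style.haveILetI false
set_option linter.unusedVariables false
set_option backward.isDefEq.respectTransparency false
set_option backward.isDefEq.respectTransparency.types false
set_option maxHeartbeats 2000000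

universe u

open CategoryTheory CategoryTheory.Limits AlgebraicGeometry TopologicalSpace Opposite

noncomputable section

namespace Groth.Agent.ComplTors

open Groth.Agent.FCompl
open Groth.Agent.TorsInj (Kill rs rs_rs rsO_comp)

variable {X : Scheme.{u}} {𝓘 : X.IdealSheafData} {hX : (FSch.completionAlong X 𝓘).IsFormal}
  [IsLocallyNoetherian X]

lemma mres_smulX {N : ModSite.Mod X.sheaf} {W W' : X.Opens} (h : W' ≤ W) (a : Γ(X, W)) (v : N.val.obj (op W)) :
    FPLocal.mres N (homOfLE h).op (show N.val.obj (op W) from a • v) =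
      (show N.val.obj (op W') from rsX h a • FPLocal.mres N (homOfLE h).op v) :=
  PresheafOfModules.map_smul N.val (homOfLE h).op a v

/-- Restrictions between affine opens are flat. -/
lemma rsX_flat {W W' : X.Opens} (hW : IsAffineOpen W) (hW' : IsAffineOpen W') (h : W' ≤ W) : (rsX h).Flat := by
  have h1 := Scheme.Hom.flat_appLE (𝟙 X) hW hW' h
  have e : (𝟙 X : _ ⟶ _).appLE W W' h = X.presheaf.map (homOfLE h).op := by simp [Scheme.Hom.appLE]
  rw [e] at h1
  exact h1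

/-- Divisibility in injective modules on the scheme. -/
theorem exists_divide_sch {I : ModSite.Mod X.sheaf} [Injective I] (W : X.affineOpens) (T : Finset Γ(X, W.1))
    (f : Γ(X, W.1)) (m e : ℕ) (u : I.val.obj (op W.1)) (hu : ∀ a ∈ T, a ^ e • u = 0) :
    ∃ (n : ℕ) (t : I.val.obj (op W.1)), (∀ a ∈ T, a ^ e • t = 0) ∧ f ^ (m + n) • t = f ^ n • u := by
  classical
  haveI : IsNoetherianRing Γ(X, W.1) := IsLocallyNoetherian.component_noetherian W
  let J : ℕ →o Submodule Γ(X, W.1) Γ(X, W.1) :=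
    ⟨fun n => LinearMap.ker (LinearMap.toSpanSingleton Γ(X, W.1) (I.val.obj (op W.1)) (f ^ n • u)),
      fun n n' hn c hc => by
        rw [LinearMap.mem_ker, LinearMap.toSpanSingleton_apply] at hc ⊢
        rw [← Nat.sub_add_cancel hn, pow_add, mul_smul, smul_comm, hc, smul_zero]⟩
  obtain ⟨n, hn⟩ := monotone_stabilizes_iff_noetherian.2 (inferInstance : IsNoetherian Γ(X, W.1) Γ(X, W.1)) J
  have hstab : ∀ c : Γ(X, W.1), c • (f ^ (m + n) • u) = 0 → c • (f ^ n • u) = 0 := fun c hc => by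
    have h1 : c ∈ J (m + n) := by
      show c ∈ LinearMap.ker _
      rw [LinearMap.mem_ker, LinearMap.toSpanSingleton_apply]
      exact hc
    rw [← hn (m + n) (Nat.le_add_left n m)] at h1
    exact h1
  let a : Option ↥T → Γ(X, W.1) := fun i => i.elim (f ^ (m + n)) fun b => b.1 ^ e
  let s : Option ↥T → I.val.obj (op W.1) := fun i => i.elim (f ^ n • u) fun _ => 0
  obtain ⟨t, ht⟩ := TorsInj.exists_smul_eq X.sheaf (I := I) a s fun W' g d hd => by
    refine FPLocal.eq_of_cover I (ι := {B : X.affineOpens // B.1 ≤ W'}) (fun B => B.1.1) (fun B => homOfLE B.2)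
      (fun y hy => ?_) fun B => ?_
    · obtain ⟨B, hB, hyB, hBW⟩ := exists_isAffineOpen_mem_and_subset (X := X) (x := y) hy
      exact ⟨⟨⟨B, hB⟩, hBW⟩, hyB⟩
    have hBW : B.1.1 ≤ W.1 := B.2.trans (leOfHom g)
    letI : Algebra Γ(X, W.1) Γ(X, B.1.1) := (rsX hBW).toAlgebra
    haveI : Module.Flat Γ(X, W.1) Γ(X, B.1.1) := rsX_flat W.2 B.1.2 hBW
    let d' : Option ↥T → Γ(X, B.1.1) := fun i => rsX B.2 (d i)
    have hd' : ∑ i, (show Γ(X, W') from d i) * rsX (leOfHom g) (a i) = 0 := hd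
    have hrel : ∑ i, a i • d' i = 0 := by
      have h1 := congrArg (rsX B.2) hd'
      rw [map_zero, map_sum] at h1
      refine Eq.trans (Finset.sum_congr rfl fun i _ => ?_) h1
      rw [map_mul, rsX_rsX, mul_comm]
      rfl
    obtain ⟨k, c, y, hy, hc⟩ := Module.Flat.isTrivialRelation_of_sum_smul_eq_zero (R := Γ(X, W.1)) (M := Γ(X, B.1.1))
      (f := a) (x := d') hrel
    have h0 : ∀ j, c none j • (f ^ n • u) = 0 := fun j => by
      refine hstab _ ?_
      have h1 := hc j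
      rw [Fintype.sum_option] at h1
      have h2 : (a none * c none j) • u = 0 := by
        rw [eq_neg_of_add_eq_zero_left h1, neg_smul, Finset.sum_smul, neg_eq_zero]
        refine Finset.sum_eq_zero fun b _ => ?_
        rw [mul_comm, mul_smul]
        exact (congrArg (c (some b) j • ·) (hu b.1 b.2)).trans (smul_zero _)
      rw [mul_comm, mul_smul] at h2
      exact h2
    rw [map_zero]
    refine (map_sum _ _ _).trans (Finset.sum_eq_zero fun i _ => ?_)
    refine (mres_smulX B.2 (d i) _).trans ?_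
    refine (congrArg (d' i • ·) (FPLocal.mres_comp (M := I) g.op (homOfLE B.2).op (s i)).symm).trans ?_
    match i with
    | some b => exact (congrArg (d' (some b) • ·) (map_zero _)).trans (smul_zero _)
    | none =>
      show d' none • FPLocal.mres I (homOfLE hBW).op (f ^ n • u) = 0
      refine (congrArg (fun r : Γ(X, B.1.1) => r • FPLocal.mres I (homOfLE hBW).op (f ^ n • u)) (hy none)).trans ?_
      refine Finset.sum_smul.trans (Finset.sum_eq_zero fun j _ => ?_)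
      rw [Algebra.smul_def, mul_comm]
      refine (mul_smul _ _ _).trans (Eq.trans (congrArg (y j • ·) ?_) (smul_zero (y j)))
      exact (mres_smulX hBW (c none j) (f ^ n • u)).symm.trans ((congrArg (FPLocal.mres I (homOfLE hBW).op) (h0 j)).trans
        (map_zero _))
  exact ⟨n, t, fun b hb => ht (some ⟨b, hb⟩), ht none⟩

variable (W : X.affineOpens) (hX)

/-- The image of a family of functions. -/
def shT (T : Finset Γ(X, W.1)) : Finset (OR (FSch.completionAlong X 𝓘) hX (pre X 𝓘 W.1)) :=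
  haveI := Classical.decEq (OR (FSch.completionAlong X 𝓘) hX (pre X 𝓘 W.1))
  T.image (sh X 𝓘 hX W.1)

lemma kill_shT {M : FSch.ModF (FSch.completionAlong X 𝓘) hX} {T : Finset Γ(X, W.1)}
    {Z : ((FSch.completionAlong X 𝓘).X 0).Opens} (hZ : Z ≤ pre X 𝓘 W.1) {u : M.val.obj (op Z)} :
    Kill (shT hX W T) hZ u ↔
      ∃ e : ℕ, ∀ a ∈ T, rsO (FSch.completionAlong X 𝓘) hX hZ (sh X 𝓘 hX W.1 a) ^ e • u = 0 := by
  classical
  constructor
  · rintro ⟨e, he⟩
    exact ⟨e, fun a ha => he _ (by rw [shT]; exact Finset.mem_image_of_mem _ ha)⟩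
  · rintro ⟨e, he⟩
    refine ⟨e, fun b hb => ?_⟩
    rw [shT] at hb
    obtain ⟨a, ha, rfl⟩ := Finset.mem_image.1 hb
    exact he a ha

/-- Local divisibility. -/
def LocDiv (M : FSch.ModF (FSch.completionAlong X 𝓘) hX) : Prop :=
  ∀ (T : Finset Γ(X, W.1)) (f : Γ(X, W.1)) (m : ℕ) (Z : ((FSch.completionAlong X 𝓘).X 0).Opens)
    (hZ : Z ≤ pre X 𝓘 W.1), IsAffineOpen Z → ∀ u : M.val.obj (op Z), Kill (shT hX W T) hZ u → ∀ x ∈ Z,
    ∃ (Z' : ((FSch.completionAlong X 𝓘).X 0).Opens) (hZ' : Z' ≤ Z), IsAffineOpen Z' ∧ x ∈ Z' ∧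
      ∃ (n : ℕ) (t : M.val.obj (op Z')), Kill (shT hX W T) (hZ'.trans hZ) t ∧
        rsO (FSch.completionAlong X 𝓘) hX (hZ'.trans hZ) (sh X 𝓘 hX W.1 f) ^ (m + n) • t =
          rsO (FSch.completionAlong X 𝓘) hX (hZ'.trans hZ) (sh X 𝓘 hX W.1 f) ^ n • rs M hZ' u

variable {hX W}

theorem locDiv_of_injective (M : FSch.ModF (FSch.completionAlong X 𝓘) hX) [Injective M] : LocDiv hX W M := by
  intro T f m Z hZ hZa u hu x hx
  obtain ⟨n, t, ht, e⟩ := TorsInj.exists_divide isLocNoethFormal hZ hZa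
    (rsO (FSch.completionAlong X 𝓘) hX hZ (sh X 𝓘 hX W.1 f)) m u hu
  refine ⟨Z, le_rfl, hZa, hx, n, t, ht, e.trans ?_⟩
  rw [show rs M (le_refl Z) u = u from congr($(M.val.presheaf.map_id (op Z)) u)]

theorem locDiv_of_iso {M N : FSch.ModF (FSch.completionAlong X 𝓘) hX} (φ : M ≅ N) (hM : LocDiv hX W M) :
    LocDiv hX W N := by
  intro T f m Z hZ hZa u hu x hx
  obtain ⟨Z', hZ', hZ'a, hxZ', n, t, ht, e⟩ := hM T f m Z hZ hZa ((φ.inv.val.app (op Z)).hom u) (hu.hom φ.inv) x hx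
  refine ⟨Z', hZ', hZ'a, hxZ', n, (φ.hom.val.app (op Z')).hom t, ht.hom φ.hom, ?_⟩
  rw [← map_smul, e, map_smul, FPLocal.app_mres]
  exact congrArg (fun z => _ • rs N hZ' z) (congrArg (fun ψ : N ⟶ N => (ψ.val.app (op Z)).hom u) φ.inv_hom_id)

theorem raise_exp {Z : ((FSch.completionAlong X 𝓘).X 0).Opens} {M : FSch.ModF (FSch.completionAlong X 𝓘) hX}
    {r : OR (FSch.completionAlong X 𝓘) hX Z} {m n n' : ℕ} (hn : n ≤ n') {t u : M.val.obj (op Z)}
    (e : r ^ (m + n) • t = r ^ n • u) : r ^ (m + n') • t = r ^ n' • u := by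
  obtain ⟨k, rfl⟩ := Nat.exists_eq_add_of_le hn
  rw [show m + (n + k) = k + (m + n) by omega, pow_add, mul_smul, e, ← mul_smul, ← pow_add, add_comm k n]

theorem locDiv_biprod {M N : FSch.ModF (FSch.completionAlong X 𝓘) hX} (hM : LocDiv hX W M) (hN : LocDiv hX W N) :
    LocDiv hX W (M ⊞ N) := by
  intro T f m Z hZ hZa u hu x hx
  obtain ⟨Z₁, hZ₁, hZ₁a, hx₁, n₁, t₁, ht₁, e₁⟩ := hM T f m Z hZ hZa
    (((biprod.fst : M ⊞ N ⟶ M).val.app (op Z)).hom u) (hu.hom _) x hx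
  obtain ⟨Z', hZ', hZ'a, hx', n₂, t₂, ht₂, e₂⟩ := hN T f m Z₁ (hZ₁.trans hZ) hZ₁a
    (((biprod.snd : M ⊞ N ⟶ N).val.app (op Z₁)).hom (rs (M ⊞ N) hZ₁ u)) ((hu.res hZ₁).hom _) x hx₁
  let r := rsO (FSch.completionAlong X 𝓘) hX ((hZ'.trans hZ₁).trans hZ) (sh X 𝓘 hX W.1 f)
  have e₁' : r ^ (m + n₁) • rs M hZ' t₁ =
      r ^ n₁ • rs M (hZ'.trans hZ₁) (((biprod.fst : M ⊞ N ⟶ M).val.app (op Z)).hom u) := by
    have h1 := congrArg (rs M hZ') e₁
    rw [mres_smul', mres_smul', map_pow, map_pow, rsO_comp, rs_rs] at h1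
    exact h1
  refine ⟨Z', hZ'.trans hZ₁, hZ'a, hx', max n₁ n₂,
    ((biprod.inl : M ⟶ M ⊞ N).val.app (op Z')).hom (rs M hZ' t₁) +
      ((biprod.inr : N ⟶ M ⊞ N).val.app (op Z')).hom t₂, ((ht₁.res hZ').hom _).add (ht₂.hom _), ?_⟩
  refine (smul_add _ _ _).trans (Eq.trans (congrArg₂ (· + ·)
    ((map_smul ((biprod.inl : M ⟶ M ⊞ N).val.app (op Z')).hom _ _).symm.trans
      ((congrArg ((biprod.inl : M ⟶ M ⊞ N).val.app (op Z')).hom (raise_exp (le_max_left n₁ n₂) e₁')).trans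
        (map_smul ((biprod.inl : M ⟶ M ⊞ N).val.app (op Z')).hom _ _)))
    ((map_smul ((biprod.inr : N ⟶ M ⊞ N).val.app (op Z')).hom _ _).symm.trans
      ((congrArg ((biprod.inr : N ⟶ M ⊞ N).val.app (op Z')).hom (raise_exp (le_max_right n₁ n₂) e₂)).trans
        (map_smul ((biprod.inr : N ⟶ M ⊞ N).val.app (op Z')).hom _ _)))) ?_)
  refine (smul_add _ _ _).symm.trans (congrArg (r ^ max n₁ n₂ • ·) ?_)
  rw [← FPLocal.app_mres, ← FPLocal.app_mres, rs_rs]
  refine Eq.trans ?_ (congrArg (fun ψ : M ⊞ N ⟶ M ⊞ N => (ψ.val.app (op Z')).hom (rs (M ⊞ N) (hZ'.trans hZ₁) u))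
    biprod.total)
  rfl

/-- Inverse images of injective modules are locally divisible. -/
theorem locDiv_pull (I : ModSite.Mod X.sheaf) [Injective I] : LocDiv hX W ((kap X 𝓘 hX).pull.obj I) := by
  classical
  intro T f m Z hZ hZa u hu x hx
  obtain ⟨e, he⟩ := (kill_shT hX W hZ).1 hu
  obtain ⟨W', hW, hV', hxW', hspan⟩ := exists_killed_rep I T e hZ hx u he
  refine ⟨pre X 𝓘 W'.1, hV', isAffineOpen_pre W', hxW', ?_⟩
  let r := rsO (FSch.completionAlong X 𝓘) hX (hV'.trans hZ) (sh X 𝓘 hX W.1 f)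
  suffices H : ∀ y ∈ Submodule.span (OR (FSch.completionAlong X 𝓘) hX (pre X 𝓘 W'.1)) (killedUnits hX I hW T e),
      ∃ (n : ℕ) (t : ((kap X 𝓘 hX).pull.obj I).val.obj (op (pre X 𝓘 W'.1))),
        Kill (shT hX W T) (hV'.trans hZ) t ∧ r ^ (m + n) • t = r ^ n • y by
    exact H _ hspan
  intro y hy
  induction hy using Submodule.span_induction with
  | mem y hy =>
    obtain ⟨v, hv, rfl⟩ := hy
    obtain ⟨n, t, ht, hft⟩ := exists_divide_sch W' (T.image (rsX hW)) (rsX hW f) m e v fun a ha => by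
      obtain ⟨b, hb, rfl⟩ := Finset.mem_image.1 ha
      exact hv b hb
    refine ⟨n, η hX I W'.1 t, (kill_shT hX W _).2 ⟨e, fun a ha => ?_⟩, ?_⟩
    · have h1 := congrArg (η hX I W'.1) (ht _ (Finset.mem_image_of_mem (rsX hW) ha))
      refine Eq.trans ?_ (h1.trans (map_zero (((kap X 𝓘 hX).adj.unit.app I).val.app (op W'.1)).hom))
      refine Eq.trans ?_ (map_smul (((kap X 𝓘 hX).adj.unit.app I).val.app (op W'.1)).hom (rsX hW a ^ e) t).symm
      show _ = sh X 𝓘 hX W'.1 (rsX hW a ^ e) • η hX I W'.1 t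
      rw [map_pow, sh_res hW]
    · have h1 := congrArg (η hX I W'.1) hft
      show r ^ (m + n) • η hX I W'.1 t = r ^ n • η hX I W'.1 v
      refine Eq.trans ?_ (h1.trans ?_)
      · refine Eq.trans ?_ (map_smul (((kap X 𝓘 hX).adj.unit.app I).val.app (op W'.1)).hom (rsX hW f ^ (m + n)) t).symm
        show _ = sh X 𝓘 hX W'.1 (rsX hW f ^ (m + n)) • η hX I W'.1 t
        rw [map_pow, sh_res hW]
      · refine (map_smul (((kap X 𝓘 hX).adj.unit.app I).val.app (op W'.1)).hom (rsX hW f ^ n) v).trans ?_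
        show sh X 𝓘 hX W'.1 (rsX hW f ^ n) • η hX I W'.1 v = _
        rw [map_pow, sh_res hW]
  | zero => exact ⟨0, 0, (kill_shT hX W _).2 ⟨0, fun a _ => smul_zero _⟩, by rw [smul_zero, smul_zero]⟩
  | add p q _ _ hp hq =>
    obtain ⟨n₁, t₁, ht₁, e₁⟩ := hp
    obtain ⟨n₂, t₂, ht₂, e₂⟩ := hq
    exact ⟨max n₁ n₂, t₁ + t₂, ht₁.add ht₂, by
      rw [smul_add, smul_add, raise_exp (le_max_left n₁ n₂) e₁, raise_exp (le_max_right n₁ n₂) e₂]⟩
  | smul c p _ hp =>
    obtain ⟨n, t, ht, ep⟩ := hp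
    exact ⟨n, c • t, ht.smul c, by rw [smul_comm, ep, smul_comm]⟩

end Groth.Agent.ComplTors
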