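import Groth.Agent.ComplTorsLib.Tors

/-!
# The completion morphism is faithfully flat on stalks
-/

set_option autoImplicit false
set_option linter.style.haveILetI false
set_option linter.unusedVariables false
set_option backward.isDefEq.respectTransparency false
set_option backward.isDefEq.respectTransparency.types false
set_option maxHeartbeats 1000000

universe u

open CategoryTheory CategoryTheory.Limits AlgebraicGeometry TopologicalSpace Opposite

noncomputable section

namespace Groth.Agent.ComplTors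

open Groth.Agent.FCompl

variable (X : Scheme.{u}) (𝓘 : X.IdealSheafData) (hX : (FSch.completionAlong X 𝓘).IsFormal)

/-- The structure map. -/
abbrev cs := FSch.schSharp (FSch.completionAlong X 𝓘) hX (FSch.completionToX X 𝓘) (FSch.completionToX_comm X 𝓘)

/-- The map of stalks to the smallest level. -/
def levelCocone (z : (FSch.completionAlong X 𝓘).X 0) :
    Cocone ((OpenNhds.inclusion z).op ⋙ ((FSch.completionAlong X 𝓘).Osh hX).obj) where
  pt := ((FSch.completionAlong X 𝓘).X 0).presheaf.stalk z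
  ι :=
    { app := fun V => ((FSch.completionAlong X 𝓘).OshProj hX 0).hom.app (op V.unop.1) ≫
        ((FSch.completionAlong X 𝓘).X 0).presheaf.germ ((FSch.completionAlong X 𝓘).lvU hX 0 V.unop.1) z
          ((lvU_toX (𝔛 := FSch.completionAlong X 𝓘) (h := hX) (k := 0) V.unop.1).symm ▸ V.unop.2)
      naturality := fun V V' i => by
        ext a
        refine Eq.trans (congrArg (((FSch.completionAlong X 𝓘).X 0).presheaf.germ _ z _).hom
          (pr_rsO (FSch.completionAlong X 𝓘) hX (leOfHom ((OpenNhds.inclusion z).map i.unop)) 0 a)) ?_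
        exact TopCat.Presheaf.germ_res_apply _ _ _ _ _ }

/-- The map of stalks to the smallest level. -/
def levelStk (z : (FSch.completionAlong X 𝓘).X 0) :
    RSpLib.rstk ((FSch.completionAlong X 𝓘).Osh hX) z →+* ((FSch.completionAlong X 𝓘).X 0).presheaf.stalk z :=
  (colimit.desc _ (levelCocone X 𝓘 hX z)).hom

variable {X 𝓘 hX}

lemma levelStk_rstkMap (z : (FSch.completionAlong X 𝓘).X 0) (r : X.presheaf.stalk (ib X 𝓘 z)) :
    levelStk X 𝓘 hX z ((RSpLib.rstkMap (ib X 𝓘) (cs X 𝓘 hX) z).hom r) =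
      ((FSch.completionToX X 𝓘 0).stalkMap z).hom r := by
  obtain ⟨W, hW, a, rfl⟩ := TopCat.Presheaf.exists_germ_eq X.presheaf r
  refine (congrArg (levelStk X 𝓘 hX z) (RSpLib.rstkMap_germ (ib X 𝓘) (cs X 𝓘 hX) hW a)).trans ?_
  refine (ConcreteCategory.congr_hom (colimit.ι_desc (levelCocone X 𝓘 hX z)
    (op (⟨pre X 𝓘 W, hW⟩ : OpenNhds z))) (sh X 𝓘 hX W a)).trans ?_
  refine Eq.trans ?_ (Scheme.Hom.germ_stalkMap_apply (FSch.completionToX X 𝓘 0) W z hW a).symm
  refine (congrArg (((FSch.completionAlong X 𝓘).X 0).presheaf.germ _ z _).hom (pr_sh W 0 a)).trans ?_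
  exact TopCat.Presheaf.germ_res_apply _ _ _ _ _

variable [IsLocallyNoetherian X]

lemma flat_rstkMap (z : (FSch.completionAlong X 𝓘).X 0) :
    (RSpLib.rstkMap (ib X 𝓘) (cs X 𝓘 hX) z).hom.Flat :=
  CompFlat.stalk_flat _ _ z fun V W hV hW => by
    obtain ⟨U, hUW, hxU, hUV⟩ := exists_affine_pre (X := X) (𝓘 := 𝓘) hV hW
    exact ⟨U.1, hxU, hUW, hUV, CompFlat.section_flat X 𝓘 hX U⟩

lemma faithfullyFlat_rstkMap (z : (FSch.completionAlong X 𝓘).X 0) :
    letI := (RSpLib.rstkMap (ib X 𝓘) (cs X 𝓘 hX) z).hom.toAlgebra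
    Module.FaithfullyFlat (RSpLib.rstk X.sheaf (ib X 𝓘 z)) (RSpLib.rstk ((FSch.completionAlong X 𝓘).Osh hX) z) := by
  letI := (RSpLib.rstkMap (ib X 𝓘) (cs X 𝓘 hX) z).hom.toAlgebra
  haveI : Module.Flat (RSpLib.rstk X.sheaf (ib X 𝓘 z)) (RSpLib.rstk ((FSch.completionAlong X 𝓘).Osh hX) z) :=
    flat_rstkMap z
  refine ⟨fun m hm htop => ?_⟩
  rw [Ideal.smul_top_eq_map, Submodule.restrictScalars_eq_top_iff] at htop
  have hm' : m ≤ IsLocalRing.maximalIdeal (X.presheaf.stalk (ib X 𝓘 z)) :=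
    (IsLocalRing.eq_maximalIdeal (R := X.presheaf.stalk (ib X 𝓘 z)) hm).le
  have h1 : (Ideal.map (RSpLib.rstkMap (ib X 𝓘) (cs X 𝓘 hX) z).hom m).map (levelStk X 𝓘 hX z) ≤
      IsLocalRing.maximalIdeal (((FSch.completionAlong X 𝓘).X 0).presheaf.stalk z) := by
    rw [Ideal.map_map, Ideal.map_le_iff_le_comap]
    intro r hr
    rw [Ideal.mem_comap, RingHom.comp_apply, levelStk_rstkMap]
    exact map_nonunit ((FSch.completionToX X 𝓘 0).stalkMap z).hom r (hm' hr)
  have h2 : (1 : RSpLib.rstk ((FSch.completionAlong X 𝓘).Osh hX) z) ∈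
      Ideal.map (RSpLib.rstkMap (ib X 𝓘) (cs X 𝓘 hX) z).hom m := by
    rw [show Ideal.map (RSpLib.rstkMap (ib X 𝓘) (cs X 𝓘 hX) z).hom m = ⊤ from htop]
    trivial
  have h3 := h1 (Ideal.mem_map_of_mem _ h2)
  rw [map_one] at h3
  exact (IsLocalRing.maximalIdeal.isMaximal _).ne_top ((Ideal.eq_top_iff_one _).2 h3)

end Groth.Agent.ComplTors
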