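import Groth.Agent.ComplTorsLib.Basic

/-!
# Torsion modules on a scheme and on its completion
-/

set_option autoImplicit false
set_option linter.style.haveILetI false
set_option linter.unusedVariables false
set_option backward.isDefEq.respectTransparency false
set_option backward.isDefEq.respectTransparency.types false
set_option maxHeartbeats 1000000

universe u

open CategoryTheory CategoryTheory.Limits AlgebraicGeometry TopologicalSpace Opposite

noncomputable section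

namespace Groth.Agent.ComplTors

open Groth.Agent.FCompl

variable {X : Scheme.{u}} {𝓘 : X.IdealSheafData} {hX : (FSch.completionAlong X 𝓘).IsFormal}

lemma pre_mono {W W' : X.Opens} (h : W' ≤ W) : pre X 𝓘 W' ≤ pre X 𝓘 W := fun _ hz => h hz

/-- Powers of the ideal restrict to powers of the ideal. -/
lemma mem_powIdealFam_of_mem (W : X.affineOpens) (n : ℕ) {a : Γ(X, W.1)} (ha : a ∈ 𝓘.ideal W ^ n) :
    a ∈ (FTors.powIdealFam X 𝓘).ideal n W.1 := by
  rw [FTors.mem_powIdealFam_iff]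
  intro W' hW'
  rw [← 𝓘.map_ideal (U := W') (V := W) hW', ← Ideal.map_pow]
  exact Ideal.mem_map_of_mem _ ha

lemma mem_pow_of_mem_powIdealFam (W : X.affineOpens) (n : ℕ) {a : Γ(X, W.1)}
    (ha : a ∈ (FTors.powIdealFam X 𝓘).ideal n W.1) : a ∈ 𝓘.ideal W ^ n := by
  have h := (FTors.mem_powIdealFam_iff X 𝓘 n W.1 a).1 ha W le_rfl
  have e : (X.presheaf.map (homOfLE (le_refl W.1)).op).hom a = a := congr($(X.presheaf.map_id (op W.1)) a)
  rwa [e] at h

variable (M : FSch.ModF (FSch.completionAlong X 𝓘) hX)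

lemma eq_zero_of_pre_empty {W : X.Opens} (hW : ∀ z, ib X 𝓘 z ∉ W) (s : M.val.obj (op (pre X 𝓘 W))) : s = 0 :=
  FPLocal.eq_of_cover M (ι := PEmpty.{u + 1}) (fun a => a.elim) (fun a => a.elim)
    (fun z hz => absurd hz (hW z)) fun a => a.elim

lemma mres_pre_trans {V : ((FSch.completionAlong X 𝓘).X 0).Opens} {A B : ((FSch.completionAlong X 𝓘).X 0).Opens}
    (hA : A ≤ V) (hB : B ≤ A) (s : M.val.obj (op V)) :
    FPLocal.mres M (homOfLE hB).op (FPLocal.mres M (homOfLE hA).op s) = FPLocal.mres M (homOfLE (hB.trans hA)).op s :=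
  (FPLocal.mres_comp (M := M) (homOfLE hA).op (homOfLE hB).op s).symm

variable [IsLocallyNoetherian X]

/-- Sections killed by an open ideal are killed by a power of the ideal. -/
theorem killedBy_push {W : X.Opens} (n : ℕ) (s : M.val.obj (op (pre X 𝓘 W))) (hs : KB M n s) :
    FTors.KilledBy (FTors.powIdealFam X 𝓘) ((kap X 𝓘 hX).push.obj M) (n + 1) (V := W) s := by
  intro W' g a ha
  show (sh X 𝓘 hX W' a) • FPLocal.mres M ((Opens.map (ib X 𝓘)).map g).op s = 0
  refine FPLocal.eq_of_cover M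
    (ι := {W'' : X.affineOpens // W''.1 ≤ W'}) (fun A => pre X 𝓘 A.1.1) (fun A => homOfLE (pre_mono A.2))
    (fun z hz => ?_) fun A => ?_
  · obtain ⟨W'', hle, hz', -⟩ := exists_affine_pre (X := X) (𝓘 := 𝓘) (V := pre X 𝓘 W') hz hz
    exact ⟨⟨W'', hle⟩, hz'⟩
  · rw [map_zero, mres_smul', ← sh_res A.2, ← FPLocal.mres_comp]
    refine hs _ _ ((FTors.mem_openIdealFam_iff _ _ n _ _).2 ?_)
    show pr (FSch.completionAlong X 𝓘) hX (pre X 𝓘 A.1.1) n _ = 0
    rw [pr_sh, ← RingHom.mem_ker, ker_qn]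
    exact (FTors.mem_powIdealFam_iff X 𝓘 (n + 1) W' a).1 ha A.1 A.2

/-- Sections killed by a power of the ideal are killed by an open ideal. -/
theorem kb_of_killedBy {W : X.Opens} (n : ℕ) (s : M.val.obj (op (pre X 𝓘 W)))
    (hs : FTors.KilledBy (FTors.powIdealFam X 𝓘) ((kap X 𝓘 hX).push.obj M) (n + 1) (V := W) s) :
    KB M n s := by
  refine kb_of_affine fun Z hZ hZa a ha => ?_
  refine FPLocal.eq_of_cover M
    (ι := {W'' : X.affineOpens // W''.1 ≤ W ∧ pre X 𝓘 W''.1 ≤ Z}) (fun A => pre X 𝓘 A.1.1)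
    (fun A => homOfLE A.2.2) (fun z hz => ?_) fun A => ?_
  · obtain ⟨W'', hle, hz', hZ'⟩ := exists_affine_pre (X := X) (𝓘 := 𝓘) hz (W₀ := W) (hZ hz)
    exact ⟨⟨W'', hle, hZ'⟩, hz'⟩
  · rw [map_zero, mres_smul', ← FPLocal.mres_comp]
    have h1 : rsO (FSch.completionAlong X 𝓘) hX A.2.2 a ∈ (𝓘.ideal A.1 ^ (n + 1)).map (sh X 𝓘 hX A.1.1) := by
      rw [← ker_pr_eq_map, RingHom.mem_ker, pr_rsO, ha, map_zero]
    generalize rsO (FSch.completionAlong X 𝓘) hX A.2.2 a = b at h1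
    show b • _ = 0
    induction h1 using Submodule.span_induction with
    | mem y hy =>
      obtain ⟨c, hc, rfl⟩ := hy
      exact hs (homOfLE A.2.1) c (mem_powIdealFam_of_mem A.1 (n + 1) hc)
    | zero => exact zero_smul _ _
    | add b c _ _ hb hc => rw [add_smul, hb, hc, add_zero]
    | smul r b _ hb => rw [smul_eq_mul, mul_smul, hb, smul_zero]

/-- Direct images of torsion modules are torsion. -/
theorem isTorsZp_push (hM : IsT M) : FTors.IsTorsZp X 𝓘 ((kap X 𝓘 hX).push.obj M) := by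
  intro W s
  refine (FTors.IsTorsSect.iff_exists (show ModSite.sect ((kap X 𝓘 hX).push.obj M) W from s)).2
    ⟨{ arrows := fun W' g => ∃ k, FTors.KilledBy (FTors.powIdealFam X 𝓘) ((kap X 𝓘 hX).push.obj M) k
         (FTors.res ((kap X 𝓘 hX).push.obj M) g s)
       downward_closed := fun {A B} g ⟨k, hk⟩ l => ⟨k, by rw [FTors.res_comp]; exact hk.res l⟩ },
     fun x hx => ?_, fun W' g hg => hg⟩
  by_cases hz : ∃ z, ib X 𝓘 z = x
  · obtain ⟨z, rfl⟩ := hz
    obtain ⟨V, l, hzV, n, hn⟩ := FPLocal.Locally.near ((isTorsSect_iff (M := M) s).1 (hM (pre X 𝓘 W) s))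
      (show z ∈ pre X 𝓘 W from hx)
    obtain ⟨W', hle, hz', hV⟩ := exists_affine_pre (X := X) (𝓘 := 𝓘) hzV (W₀ := W) hx
    refine ⟨W'.1, homOfLE hle, ⟨n + 1, killedBy_push M n _ ?_⟩, hz'⟩
    show KB M n (FPLocal.mres M ((Opens.map (ib X 𝓘)).map (homOfLE hle)).op s)
    have e : FPLocal.mres M ((Opens.map (ib X 𝓘)).map (homOfLE hle)).op s =
        FTors.res M (homOfLE hV) (FTors.res M l s) := FTors.res_comp M l (homOfLE hV) s
    rw [e]
    exact FTors.KilledBy.res (homOfLE hV) hn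
  · obtain ⟨C, hC, hCe⟩ : ∃ C : X.Opens, x ∈ C ∧ ∀ z, ib X 𝓘 z ∉ C :=
      ⟨⟨(Set.range (ib X 𝓘))ᶜ, (FSch.completionToX X 𝓘 0).isClosedEmbedding.isClosed_range.isOpen_compl⟩, hz,
        fun z h => h ⟨z, rfl⟩⟩
    refine ⟨W ⊓ C, homOfLE inf_le_left, ⟨0, ?_⟩, hx, hC⟩
    intro W' g a ha
    show (sh X 𝓘 hX W' a) • (show M.val.obj (op (pre X 𝓘 W')) from _) = 0
    exact eq_zero_of_pre_empty M (fun z h => hCe z (leOfHom g h).2) _

/-- Torsion of a section is detected on the direct image. -/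
theorem isTorsSect_of_push {W : X.Opens} (s : M.val.obj (op (pre X 𝓘 W)))
    (hs : FTors.IsTorsSect (FTors.powIdealFam X 𝓘) ((kap X 𝓘 hX).push.obj M)
      (show ModSite.sect ((kap X 𝓘 hX).push.obj M) W from s)) :
    FTors.IsTorsSect (FTors.openIdealFam (FSch.completionAlong X 𝓘) hX) M
      (show ModSite.sect M (pre X 𝓘 W) from s) := by
  obtain ⟨S, hS, hS'⟩ :=
    (FTors.IsTorsSect.iff_exists (show ModSite.sect ((kap X 𝓘 hX).push.obj M) W from s)).1 hs
  refine (isTorsSect_iff s).2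
    ⟨{ arrows := fun Z l => ∃ n, KB M n (FPLocal.mres M l.op s)
       downward_closed := fun {A B} g ⟨n, hn⟩ l => ⟨n, by
          rw [show FPLocal.mres M (l ≫ g).op s = FTors.res M l (FTors.res M g s) from FTors.res_comp M g l s]
          exact FTors.KilledBy.res l hn⟩ },
     fun z hz => ?_, fun Z l hl => hl⟩
  obtain ⟨W', g, hg, hzW'⟩ := hS (ib X 𝓘 z) hz
  obtain ⟨k, hk⟩ := hS' g hg
  refine ⟨pre X 𝓘 W', (Opens.map (ib X 𝓘)).map g, ⟨k, kb_of_killedBy M k _ ?_⟩, hzW'⟩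
  exact hk.mono (Nat.le_succ k)

/-- Torsion is detected on the direct image. -/
theorem isT_of_isTorsZp_push (hM : FTors.IsTorsZp X 𝓘 ((kap X 𝓘 hX).push.obj M)) : IsT M := by
  intro V s
  obtain ⟨W, rfl⟩ := exists_pre_eq V
  exact isTorsSect_of_push M s (hM W s)

end Groth.Agent.ComplTors
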